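import Groth.Agent.H51.SpGlue2
import Groth.Agent.H51.SpOpen
import Groth.Agent.H50.ProperImage
import Groth.Agent.H49.AlgSpRep
import Groth.Agent.H53.LocPBase
import Groth.Agent.H53.LQF
import Groth.Agent.H53.QAffMor

/-!
# General lemmas on sheaves/algebraic spaces used in the ZMT circle of results
-/

set_option autoImplicit false
universe u
open CategoryTheory CategoryTheory.Limits AlgebraicGeometry Opposite

namespace Groth.Agent.H53.ZMT

open AlgSp Groth.Agent.H50 Groth.Agent.H51

variable {S : Scheme.{u}}

/-- Separatedness is stable under base change. -/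
theorem isSeparatedMor_of_isPullback {F G F' G' : Sp S} {f : F ⟶ G} {g : G' ⟶ G}
    {fst : F' ⟶ F} {snd : F' ⟶ G'} (sq : IsPullback fst snd f g) (hf : IsSeparatedMor f) :
    IsSeparatedMor snd :=
  MorphismProperty.of_isPullback (P := (RepWith @IsClosedImmersion).diagonal) sq hf

/-- Monomorphisms are separated. -/
theorem isSeparatedMor_of_mono {F G : Sp S} (f : F ⟶ G) [Mono f] : IsSeparatedMor f := by
  have : IsIso (pullback.diagonal f) := (pullback.isIso_diagonal_iff f).2 inferInstance
  exact MorphismProperty.of_isIso (RepWith @IsClosedImmersion) _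

/-- `LocP` is stable under precomposition with a representable etale map. -/
theorem locP_comp_of_etale (P : MorphismProperty Scheme.{u}) {F' F G : Sp S} {j : F' ⟶ F}
    {g : F ⟶ G} (hj : RepWith @Etale j) (hg : LocP P g) : LocP P (j ≫ g) := by
  intro U V a b h ha hb hcomm
  exact hg (a ≫ j) b h ((RepWith @Etale).comp_mem _ _ ha hj) hb (by rw [Category.assoc, hcomm])

/-- Locally quasi-finite is stable under base change. -/
theorem locP_lqf_of_isPullback {X Y X' Y' : Sp S} (hX : IsAlgSpace X) (hY : IsAlgSpace Y)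
    (hY' : IsAlgSpace Y') {q : X' ⟶ X} {p : X' ⟶ Y'} {f : X ⟶ Y} {g : Y' ⟶ Y}
    (sq : IsPullback q p f g) (hf : LocP (@LocallyQuasiFinite ⊓ @LocallyOfFiniteType) f) :
    LocP (@LocallyQuasiFinite ⊓ @LocallyOfFiniteType) p := by
  refine locP_of_isPullback (@LocallyQuasiFinite ⊓ @LocallyOfFiniteType) ?_ etLocSrc_lqf
    hX hY hY' sq hf
  intro A B e he
  have : Etale e := he
  exact ⟨locallyQuasiFinite_of_etale e, inferInstance⟩

/-- A sheaf quasi-affine over an affine scheme is a quasi-affine scheme. -/
theorem exists_iso_yon_of_isQuasiAffineMor {F : Sp S} {Z : Over S} (hZ : IsAffine Z.left)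
    (π : F ⟶ (yon S).obj Z) (hπ : IsQuasiAffineMor π) :
    ∃ (W : Over S) (e : (yon S).obj W ≅ F), W.left.IsQuasiAffine := by
  obtain ⟨W, i, fst, sq, hW⟩ := hπ hZ (𝟙 _)
  have : IsIso fst := sq.isIso_fst_of_isIso
  exact ⟨W, asIso fst, hW⟩

/-- An algebraic space covered by two open subfunctors which are schemes is a scheme. -/
theorem exists_iso_yon_of_two_opens {F : Sp S} (hF : IsAlgSpace F) {V₁ V₂ : Over S}
    (j₁ : (yon S).obj V₁ ⟶ F) (j₂ : (yon S).obj V₂ ⟶ F) (h₁ : RepWith @IsOpenImmersion j₁)
    (h₂ : RepWith @IsOpenImmersion j₂)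
    (hcov : ∀ x : Points F, x ∈ Set.range (Points.map j₁) ∨ x ∈ Set.range (Points.map j₂)) :
    ∃ G : Over S, Nonempty ((yon S).obj G ≅ F) := by
  obtain ⟨U, a, ha, has⟩ := hF.atlas
  refine exists_iso_yon_of_forall_point a has (fun u => ?_)
  rcases hcov (Points.ofPt a u) with h | h
  · exact ⟨V₁, j₁, h₁, h⟩
  · exact ⟨V₂, j₂, h₂, h⟩

/-- A scheme whose points are covered by the images of two compact schemes is compact. -/
theorem compactSpace_of_two_cover {G V₁ V₂ : Over S} [CompactSpace ↥V₁.left]
    [CompactSpace ↥V₂.left] {F : Sp S} (e : (yon S).obj G ≅ F)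
    (j₁ : (yon S).obj V₁ ⟶ F) (j₂ : (yon S).obj V₂ ⟶ F)
    (hcov : ∀ x : Points F, x ∈ Set.range (Points.map j₁) ∨ x ∈ Set.range (Points.map j₂)) :
    CompactSpace ↥G.left := by
  have hc₁ : IsCompact (Set.range (Points.map j₁)) := by
    rw [range_map_eq_range_ofPt]
    exact isCompact_range (Points.continuous_ofPt j₁)
  have hc₂ : IsCompact (Set.range (Points.map j₂)) := by
    rw [range_map_eq_range_ofPt]
    exact isCompact_range (Points.continuous_ofPt j₂)
  have hF : CompactSpace (Points F) := by
    constructor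
    have : (Set.univ : Set (Points F)) = Set.range (Points.map j₁) ∪ Set.range (Points.map j₂) := by
      symm
      rw [Set.eq_univ_iff_forall]
      exact hcov
    rw [this]
    exact hc₁.union hc₂
  -- transport along `Points F ≃ Points h_G ≃ G`
  have hG : CompactSpace (Points ((yon S).obj G)) := by
    constructor
    have hsurj : Function.Surjective (Points.map e.inv) := by
      intro y
      refine ⟨Points.map e.hom y, ?_⟩
      rw [← Points.map_comp, e.hom_inv_id, Points.map_id]
    rw [← Set.range_eq_univ.2 hsurj]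
    exact isCompact_range (Points.continuous_map e.inv)
  exact (Points.schemeHomeo G).symm.compactSpace

end Groth.Agent.H53.ZMT
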