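import Groth.Agent.H53.ZMT.LqfSep
import Groth.Agent.H51.SpField2

/-!
# An algebraic space separated and locally quasi-finite over a scheme is a scheme: general base
-/

set_option autoImplicit false
universe u
open CategoryTheory CategoryTheory.Limits AlgebraicGeometry Opposite

namespace Groth.Agent.H53.ZMT

open AlgSp Groth.Agent.H50 Groth.Agent.H51

variable {S : Scheme.{u}}

/-- Every point has an open neighbourhood which is a scheme. -/
theorem exists_open_subscheme {T : Over S} {X : Sp S} (hX : IsAlgSpace X)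
    (f : X ⟶ (yon S).obj T) (hsep : IsSeparatedMor f)
    (hqf : LocP (@LocallyQuasiFinite ⊓ @LocallyOfFiniteType) f) (x : Points X) :
    ∃ (W : Over S) (i : (yon S).obj W ⟶ X), RepWith @IsOpenImmersion i ∧
      x ∈ Set.range (Points.map i) := by
  obtain ⟨t, ht⟩ := (Points.schemeHomeo T).surjective (Points.map f x)
  obtain ⟨_, ⟨(T₁ : T.left.Opens), hT₁, rfl⟩, htT₁, -⟩ :=
    T.left.isBasis_affineOpens.exists_subset_of_mem_open (Set.mem_univ t) isOpen_univ
  have hT₁aff : IsAffine (overOpen T T₁).left := hT₁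
  have sq : IsPullback (pullback.fst f ((yon S).map (overOpenι T T₁)))
      (pullback.snd f ((yon S).map (overOpenι T T₁))) f ((yon S).map (overOpenι T T₁)) :=
    IsPullback.of_hasPullback _ _
  set X₁ := pullback f ((yon S).map (overOpenι T T₁)) with hX₁def
  set k : X₁ ⟶ X := pullback.fst f ((yon S).map (overOpenι T T₁)) with hk
  set f₁ : X₁ ⟶ (yon S).obj (overOpen T T₁) := pullback.snd f ((yon S).map (overOpenι T T₁))
    with hf₁
  have hkoi : RepWith @IsOpenImmersion k :=
    (RepWith @IsOpenImmersion).of_isPullback sq.flip (repWith_isOpenImmersion_overOpenι T T₁)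
  have hX₁ : IsAlgSpace X₁ :=
    Groth.Agent.H49.isAlgSpace_of_isPullback sq (IsAlgSpace.yon_obj T).diag hX
      (IsAlgSpace.yon_obj _)
  have hsep₁ : IsSeparatedMor f₁ := isSeparatedMor_of_isPullback sq hsep
  have hqf₁ : LocP (@LocallyQuasiFinite ⊓ @LocallyOfFiniteType) f₁ :=
    locP_lqf_of_isPullback hX (IsAlgSpace.yon_obj T) (IsAlgSpace.yon_obj _) sq hqf
  let t₁ : ↥(overOpen T T₁).left := ⟨t, htT₁⟩
  have ht₁ : Points.map f x =
      Points.map ((yon S).map (overOpenι T T₁)) (Points.schemeHomeo _ t₁) := by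
    rw [Points.map_yon_map_apply, ← ht]
    rfl
  obtain ⟨x₁, hx₁, -⟩ := points_exists_of_isPullback sq x _ ht₁
  obtain ⟨W, i₁, hi₁, y, hy⟩ := exists_open_subscheme_of_affine hT₁aff hX₁ f₁ hsep₁ hqf₁ x₁
  refine ⟨W, i₁ ≫ k, (RepWith @IsOpenImmersion).comp_mem _ _ hi₁ hkoi, y, ?_⟩
  rw [← points_map_comp_apply, hy, hx₁]

/-- **Stacks 03XX**: an algebraic space separated and locally quasi-finite over a scheme is a
scheme. -/
theorem exists_iso_yon_of_lqf_separated {T : Over S} {X : Sp S} (hX : IsAlgSpace X)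
    (f : X ⟶ (yon S).obj T) (hsep : IsSeparatedMor f)
    (hqf : LocP (@LocallyQuasiFinite ⊓ @LocallyOfFiniteType) f) :
    ∃ G : Over S, Nonempty ((yon S).obj G ≅ X) := by
  obtain ⟨U, a, hae, has⟩ := hX.atlas
  refine exists_iso_yon_of_forall_point a has (fun u => ?_)
  obtain ⟨W, i, hi, hx⟩ := exists_open_subscheme hX f hsep hqf (Points.ofPt a u)
  exact ⟨W, i, hi, hx⟩

end Groth.Agent.H53.ZMT
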