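import Groth.Agent.H53.UnramWhere2
import Groth.Agent.H53.ZMT.LqfSep2
import Groth.Agent.S10621

/-!
# Unramified monomorphisms of algebraic spaces
-/

set_option autoImplicit false
universe u
open CategoryTheory CategoryTheory.Limits AlgebraicGeometry Opposite

namespace Groth.Agent.H53.ZMT

open AlgSp Groth.Agent.H50 Groth.Agent.H51

variable {S : Scheme.{u}}

theorem repWith_of_isIso (P : MorphismProperty Scheme.{u}) [P.ContainsIdentities] [P.RespectsIso]
    {F G : Sp S} (f : F ⟶ G) [IsIso f] : RepWith P f := by
  refine MorphismProperty.relative.of_exists ?_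
  intro T g
  refine ⟨T, g ≫ inv f, 𝟙 T, ?_, P.id_mem _⟩
  rw [CategoryTheory.Functor.map_id]
  exact IsPullback.of_vert_isIso ⟨by simp⟩

/-- A monomorphism from an algebraic space is universally injective. -/
theorem isUnivInjectiveMor_of_mono {X Y : Sp S} (hX : IsAlgSpace X) (f : X ⟶ Y) [Mono f] :
    IsUnivInjectiveMor f := by
  rw [Groth.Agent.H53.isUnivInjectiveMor_iff_diagonal_surjective hX]
  intro z
  refine ⟨Points.map (inv (pullback.diagonal f)) z, ?_⟩
  rw [← Points.map_comp, IsIso.inv_hom_id, Points.map_id]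

/-- An unramified universally injective morphism of algebraic spaces is a monomorphism. -/
theorem mono_of_unramified_of_isUnivInjectiveMor {X Y : AlgSp.Space S} (f : X ⟶ Y)
    (hu : LocP (@LocallyOfFiniteType ⊓ @FormallyUnramified) f.hom)
    (hi : IsUnivInjectiveMor f.hom) : Mono f.hom := by
  have hΔ : RepWith @IsOpenImmersion (pullback.diagonal f.hom) := s10262_part1 f hu
  have hs : IsSurjectiveMor (pullback.diagonal f.hom) :=
    (Groth.Agent.H53.isUnivInjectiveMor_iff_diagonal_surjective X.property f.hom).1 hi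
  have he : IsEtaleMor (pullback.diagonal f.hom) :=
    Groth.Agent.H53.isEtaleMor_of_isOpenImmersion _ hΔ
  have hepi : Epi (pullback.diagonal f.hom) :=
    Groth.Agent.H53.epi_of_isEtaleMor_of_isSurjectiveMor X.property _ he hs
  have hiso : IsIso (pullback.diagonal f.hom) := Groth.Agent.H53.sp_isIso_of_mono_of_epi _
  exact (pullback.isIso_diagonal_iff f.hom).1 hiso

/-- A monomorphism locally of finite type is unramified. -/
theorem unramified_of_mono_of_lft {X Y : AlgSp.Space S} (f : X ⟶ Y)
    (hlft : LocP @LocallyOfFiniteType f.hom) [Mono f.hom] :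
    LocP (@LocallyOfFiniteType ⊓ @FormallyUnramified) f.hom :=
  s10262_part2 f hlft (repWith_of_isIso _ _)

/-- Unramified morphisms are locally quasi-finite. -/
theorem locP_lqf_of_unramified {X Y : Sp S} (f : X ⟶ Y)
    (hu : LocP (@LocallyOfFiniteType ⊓ @FormallyUnramified) f) :
    LocP (@LocallyQuasiFinite ⊓ @LocallyOfFiniteType) f := by
  intro U V a b h ha hb w
  obtain ⟨h1, h2⟩ := hu a b h ha hb w
  have : LocallyOfFiniteType h.left := h1
  have : FormallyUnramified h.left := h2
  exact ⟨locallyQuasiFinite_of_formallyUnramified h.left, h1⟩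

end Groth.Agent.H53.ZMT
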