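import Mathlib.AlgebraicGeometry.ZariskisMainTheorem

/-!
# Local structure of quasi-finite morphisms: elementary etale neighbourhood version

A variant of `AlgebraicGeometry.exists_etale_isCompl_of_quasiFiniteAt` keeping more of the
conclusions of the ring level statement: the etale neighbourhood has a section over the residue
field of the base point and the finite part has exactly one point over the image of the section.
-/

set_option autoImplicit false
universe u
open CategoryTheory CategoryTheory.Limits AlgebraicGeometry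

namespace Groth.Agent.H53.ZMT

/-- The residue field point of an affine open in terms of the residue field of the prime. -/
theorem exists_spec_residueField_hom {S : Scheme.{u}} {U : S.Opens} (hU : IsAffineOpen U) (s : S)
    (hs : s ∈ U) :
    ∃ ρ : Spec (S.residueField s) ⟶
        Spec (.of (hU.primeIdealOf ⟨s, hs⟩).asIdeal.ResidueField),
      ρ ≫ Spec.map (CommRingCat.ofHom (algebraMap Γ(S, U)
        (hU.primeIdealOf ⟨s, hs⟩).asIdeal.ResidueField)) ≫ hU.fromSpec =
        S.fromSpecResidueField s := by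
  set p₀ := hU.primeIdealOf ⟨s, hs⟩ with hp₀
  have e : hU.fromSpec p₀ = s := hU.fromSpec_primeIdealOf ⟨s, hs⟩
  have h1 := Scheme.Spec.map_residueFieldIso_inv_eq_fromSpecResidueField Γ(S, U) p₀
  have h2 := Scheme.Hom.SpecMap_residueFieldMap_fromSpecResidueField hU.fromSpec p₀
  refine ⟨Spec.map (S.residueFieldCongr e).hom ≫ inv (Spec.map (hU.fromSpec.residueFieldMap p₀)) ≫
    Spec.map (Scheme.Spec.residueFieldIso Γ(S, U) p₀).inv, ?_⟩
  simp only [Category.assoc]
  rw [reassoc_of% h1, ← h2, IsIso.inv_hom_id_assoc]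
  simp

variable {X S : Scheme.{u}} (f : X ⟶ S) [LocallyOfFiniteType f]

set_option backward.defeqAttrib.useBackward true in
set_option backward.isDefEq.respectTransparency false in
open TensorProduct in
/-- Etale localization of a quasi-finite point: elementary etale neighbourhood (with a section
`σ` over the residue field of the base point) and an open part of the base change, finite over
the neighbourhood, with exactly one point over the image of `σ`; this point lies over `x`. -/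
theorem exists_elementary_etale_finite_of_quasiFiniteAt
    {x : X} {s : S} (h : f x = s) (hx : f.QuasiFiniteAt x) :
    ∃ (U : Scheme.{u}) (g : U ⟶ S) (σ : Spec (S.residueField s) ⟶ U), IsAffine U ∧ Etale g ∧
      σ ≫ g = S.fromSpecResidueField s ∧
    ∃ (V : (pullback f g).Opens), IsFinite (V.ι ≫ pullback.snd f g) ∧
      (∃ v ∈ V, pullback.fst f g v = x ∧
        ∀ z : Spec (S.residueField s), pullback.snd f g v = σ z) ∧
      ∀ q ∈ V, (∃ z : Spec (S.residueField s), pullback.snd f g q = σ z) →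
        pullback.fst f g q = x := by
  subst h
  obtain ⟨_, ⟨U, hU, rfl⟩, hxU, -⟩ := S.isBasis_affineOpens.exists_subset_of_mem_open
    (Set.mem_univ (f x)) isOpen_univ
  obtain ⟨_, ⟨V, hV, rfl⟩, hxV, hUV : V ≤ f ⁻¹ᵁ U⟩ :=
    X.isBasis_affineOpens.exists_subset_of_mem_open hxU (f ⁻¹ᵁ U).2
  have : (f.appLE U V hUV).hom.FiniteType := f.finiteType_appLE hU hV hUV
  algebraize [(f.appLE U V hUV).hom]
  have : (hV.primeIdealOf ⟨x, hxV⟩).asIdeal.LiesOver (hU.primeIdealOf ⟨f x, hxU⟩).asIdeal := by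
    suffices hU.primeIdealOf ⟨f x, hxU⟩ = Spec.map (f.appLE U V hUV) (hV.primeIdealOf ⟨x, hxV⟩) from
      ⟨congr(($this).1)⟩
    apply hU.isoSpec.inv.homeomorph.injective
    apply Subtype.ext
    simp only [IsAffineOpen.primeIdealOf, Scheme.Hom.homeomorph_apply,
      ← Scheme.Hom.comp_apply, ← Scheme.Opens.ι_apply, IsAffineOpen.isoSpec_hom]
    simp
  have : Algebra.QuasiFiniteAt Γ(S, U) (hV.primeIdealOf ⟨x, hxV⟩).asIdeal :=
    hx.quasiFiniteAt hV hU hUV hxV
  obtain ⟨R, _, _, _, P, _, _, e, _, P', _, _, hP', heP', hbij, _, huniq⟩ :=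
    Algebra.exists_etale_isIdempotentElem_forall_liesOver_eq
    (hU.primeIdealOf ⟨f x, hxU⟩).asIdeal (hV.primeIdealOf ⟨x, hxV⟩).asIdeal
  have : (algebraMap R (Localization.Away e)).Finite := RingHom.finite_algebraMap.mpr ‹_›
  let φ : Γ(S, U) ⟶ .of R := CommRingCat.ofHom <| algebraMap Γ(S, U) R
  have hφ : φ.hom.Etale := RingHom.etale_algebraMap.mpr ‹_›
  have : Etale (Spec.map φ) := HasRingHomProperty.Spec_iff.mpr hφ
  let e₁ : Spec (.of (R ⊗ Γ(X, V))) ≅ pullback (Spec.map (f.appLE U V hUV)) (Spec.map φ) :=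
    (pullbackSpecIso _ _ _).symm ≪≫ pullbackSymmetry _ _
  have he₁ : e₁.hom ≫ pullback.fst _ _ =
      Spec.map (CommRingCat.ofHom Algebra.TensorProduct.includeRight.toRingHom) := by
    dsimp [e₁, RingHom.algebraMap_toAlgebra]
    rw [Category.assoc, pullbackSymmetry_hom_comp_fst]
    exact pullbackSpecIso_inv_snd ..
  have he₁' : e₁.hom ≫ pullback.snd _ _ =
      Spec.map (CommRingCat.ofHom (algebraMap R (R ⊗[Γ(S, U)] Γ(X, V)))) := by
    dsimp [e₁, RingHom.algebraMap_toAlgebra]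
    rw [Category.assoc, pullbackSymmetry_hom_comp_snd]
    exact pullbackSpecIso_inv_fst ..
  let g : Spec (.of (R ⊗[Γ(S, U)] Γ(X, V))) ⟶ pullback f (Spec.map φ ≫ hU.fromSpec) :=
    e₁.hom ≫ pullback.map _ _ _ _ hV.fromSpec (𝟙 _) hU.fromSpec
      (IsAffineOpen.SpecMap_appLE_fromSpec ..) (by simp)
  have hg2 : g ≫ pullback.snd f _ =
      Spec.map (CommRingCat.ofHom (algebraMap R (R ⊗[Γ(S, U)] Γ(X, V)))) := by
    simp only [g, Category.assoc, pullback.lift_snd, pullback.map]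
    rw [Category.comp_id, he₁']
  let W₁ := g ''ᵁ PrimeSpectrum.basicOpen e
  have : IsFinite (W₁.ι ≫ pullback.snd f _) := by
    let ι : Spec (.of (Localization.Away e)) ⟶ pullback f (Spec.map φ ≫ hU.fromSpec) :=
      Spec.map (CommRingCat.ofHom <| algebraMap _ _) ≫ g
    have : ι.opensRange = W₁ := by
      simp only [Scheme.Hom.opensRange_comp, ι, W₁]
      congr 1
      exact TopologicalSpace.Opens.ext <| PrimeSpectrum.localization_away_comap_range _ _
    rw [← this, ← MorphismProperty.cancel_left_of_respectsIso @IsFinite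
      (Scheme.Hom.isoOpensRange _).hom]
    have H : (pullbackSpecIso _ R _).inv ≫ pullback.fst _ (Spec.map (f.appLE U V hUV)) = _ :=
      pullbackSpecIso_inv_fst ..
    simpa [Scheme.Hom.isoOpensRange, ι, g, e₁, RingHom.algebraMap_toAlgebra, φ, H,
      ← Spec.map_comp, IsFinite.SpecMap_iff]
  -- the fibre point computation
  have hfst : pullback.fst f (Spec.map φ ≫ hU.fromSpec) (g ⟨P', ‹_›⟩) = x := by
    trans hV.fromSpec ⟨P'.comap Algebra.TensorProduct.includeRight.toRingHom, inferInstance⟩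
    · simp [← Scheme.Hom.comp_apply, -Scheme.Hom.comp_base, g, reassoc_of% he₁]; rfl
    convert! hV.fromSpec_primeIdealOf ⟨x, hxV⟩
  -- the section
  set p₀ := hU.primeIdealOf ⟨f x, hxU⟩ with hp₀
  obtain ⟨ρ, hρ⟩ := exists_spec_residueField_hom hU (f x) hxU
  let ψ : P.ResidueField →+* p₀.asIdeal.ResidueField :=
    (RingEquiv.ofBijective _ hbij).symm.toRingHom
  have hψ : ∀ a, ψ (Ideal.ResidueField.mapₐ p₀.asIdeal P (Algebra.ofId _ _) (P.over_def _) a) = a :=
    fun a => (RingEquiv.ofBijective _ hbij).symm_apply_apply a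
  let σ₀ : Spec (.of p₀.asIdeal.ResidueField) ⟶ Spec (.of R) :=
    Spec.map (CommRingCat.ofHom (ψ.comp (algebraMap R P.ResidueField)))
  have hσ₀ : σ₀ ≫ Spec.map φ =
      Spec.map (CommRingCat.ofHom (algebraMap Γ(S, U) p₀.asIdeal.ResidueField)) := by
    rw [← Spec.map_comp]
    congr 1
    ext a
    change ψ (algebraMap R P.ResidueField (algebraMap Γ(S, U) R a)) = _
    rw [← IsScalarTower.algebraMap_apply,
      ← (Ideal.ResidueField.mapₐ p₀.asIdeal P (Algebra.ofId _ _) (P.over_def _)).commutes a, hψ]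
    rfl
  have hσ₀pt : ∀ z, σ₀ z = ⟨P, ‹_›⟩ := by
    intro z
    apply PrimeSpectrum.ext
    change Ideal.comap (ψ.comp (algebraMap R P.ResidueField)) z.asIdeal = P
    have hz : z.asIdeal = ⊥ := by
      have := (Ideal.eq_bot_or_top z.asIdeal).resolve_right z.2.ne_top
      exact this
    rw [hz, ← RingHom.ker_eq_comap_bot]
    ext a
    rw [RingHom.mem_ker, RingHom.comp_apply, map_eq_zero_iff ψ ψ.injective,
      Ideal.algebraMap_residueField_eq_zero]
  have hsnd : ∀ (Q : Ideal (R ⊗[Γ(S, U)] Γ(X, V))) [Q.IsPrime],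
      pullback.snd f (Spec.map φ ≫ hU.fromSpec) (g ⟨Q, ‹_›⟩) =
        ⟨Q.comap (algebraMap R (R ⊗[Γ(S, U)] Γ(X, V))), inferInstance⟩ := by
    intro Q _
    rw [← Scheme.Hom.comp_apply, hg2]
    rfl
  have hσpt : ∀ z, (ρ ≫ σ₀) z = ⟨P, ‹_›⟩ := fun z => by
    rw [Scheme.Hom.comp_apply]; exact hσ₀pt _
  have hex : ∀ z, pullback.snd f (Spec.map φ ≫ hU.fromSpec) (g ⟨P', ‹_›⟩) = (ρ ≫ σ₀) z := by
    intro z
    rw [hσpt, hsnd]
    exact PrimeSpectrum.ext (Ideal.over_def _ _).symm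
  have key : ∀ q₀ ∈ PrimeSpectrum.basicOpen e,
      (∃ z, pullback.snd f (Spec.map φ ≫ hU.fromSpec) (g q₀) = (ρ ≫ σ₀) z) →
        pullback.fst f (Spec.map φ ≫ hU.fromSpec) (g q₀) = x := by
    rintro q₀ hq₀ ⟨z, hz⟩
    rw [hσpt] at hz
    have hq₀' : g q₀ = g ⟨q₀.asIdeal, q₀.2⟩ := rfl
    rw [hq₀', hsnd] at hz
    have hlo : q₀.asIdeal.LiesOver P := ⟨(congrArg PrimeSpectrum.asIdeal hz).symm⟩
    have := huniq q₀.asIdeal q₀.2 hlo hq₀
    have hq₀eq : q₀ = ⟨P', ‹_›⟩ := PrimeSpectrum.ext this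
    rw [hq₀eq]
    exact hfst
  refine ⟨Spec (.of R), Spec.map φ ≫ hU.fromSpec, ρ ≫ σ₀, inferInstance, inferInstance, ?_,
    W₁, ‹_›, ⟨g ⟨P', ‹_›⟩, ⟨⟨P', ‹_›⟩, heP', rfl⟩, hfst, hex⟩, ?_⟩
  · rw [Category.assoc, reassoc_of% hσ₀, hρ]
  · rintro _ ⟨q₀, hq₀, rfl⟩ hz
    exact key q₀ hq₀ hz

/-- The same for an arbitrary pullback square and an arbitrary field valued point of the base
through the image of `x`. -/
theorem exists_elementary_etale_finite_of_quasiFiniteAt' (x : X) (hx : f.QuasiFiniteAt x)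
    {K : Type u} [Field K] (τ : Spec (.of K) ⟶ S) (hτ : ∀ z, τ z = f x) :
    ∃ (U : Scheme.{u}) (g : U ⟶ S) (σ : Spec (.of K) ⟶ U), IsAffine U ∧ Etale g ∧ σ ≫ g = τ ∧
      ∀ (X' : Scheme.{u}) (fst : X' ⟶ X) (snd : X' ⟶ U), IsPullback fst snd f g →
        ∃ V : X'.Opens, IsFinite (V.ι ≫ snd) ∧
          (∃ v ∈ V, fst v = x ∧ ∀ z, snd v = σ z) ∧
          ∀ q ∈ V, (∃ z, snd q = σ z) → fst q = x := by
  have hs : f x = τ (IsLocalRing.closedPoint K) := (hτ _).symm
  obtain ⟨U, g, σ, hU, hg, hσ, V, hfin, ⟨v, hvV, hv1, hv2⟩, huniq⟩ :=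
    exists_elementary_etale_finite_of_quasiFiniteAt f hs hx
  have hd := Scheme.descResidueField_stalkClosedPointTo_fromSpecResidueField K S τ
  set d := Spec.map (Scheme.descResidueField (Scheme.stalkClosedPointTo τ)) with hddef
  refine ⟨U, g, d ≫ σ, hU, hg, by rw [Category.assoc, hσ, hd], ?_⟩
  intro X' fst snd sq
  have e1 : sq.isoPullback.hom ≫ pullback.fst f g = fst := sq.isoPullback_hom_fst
  have e2 : sq.isoPullback.hom ≫ pullback.snd f g = snd := sq.isoPullback_hom_snd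
  have hfst : ∀ q, fst q = pullback.fst f g (sq.isoPullback.hom q) := fun q => by
    rw [← Scheme.Hom.comp_apply, e1]
  have hsnd : ∀ q, snd q = pullback.snd f g (sq.isoPullback.hom q) := fun q => by
    rw [← Scheme.Hom.comp_apply, e2]
  have hinv : sq.isoPullback.hom (sq.isoPullback.inv v) = v := by
    rw [← Scheme.Hom.comp_apply, Iso.inv_hom_id]; rfl
  refine ⟨sq.isoPullback.hom ⁻¹ᵁ V, ?_, ⟨sq.isoPullback.inv v, ?_, ?_, ?_⟩, ?_⟩
  · have h1 : (sq.isoPullback.hom ⁻¹ᵁ V).ι ≫ snd =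
        (sq.isoPullback.hom ∣_ V) ≫ V.ι ≫ pullback.snd f g :=
      calc (sq.isoPullback.hom ⁻¹ᵁ V).ι ≫ snd
          = (sq.isoPullback.hom ⁻¹ᵁ V).ι ≫ sq.isoPullback.hom ≫ pullback.snd f g := by rw [e2]
        _ = ((sq.isoPullback.hom ⁻¹ᵁ V).ι ≫ sq.isoPullback.hom) ≫ pullback.snd f g :=
          (Category.assoc _ _ _).symm
        _ = ((sq.isoPullback.hom ∣_ V) ≫ V.ι) ≫ pullback.snd f g := by rw [morphismRestrict_ι]
        _ = _ := Category.assoc _ _ _
    rw [h1]
    infer_instance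
  · change sq.isoPullback.hom (sq.isoPullback.inv v) ∈ V
    rw [hinv]
    exact hvV
  · rw [hfst, hinv]
    exact hv1
  · intro z
    rw [hsnd, hinv, Scheme.Hom.comp_apply]
    exact hv2 _
  · rintro q hq ⟨z, hz⟩
    rw [hfst]
    refine huniq _ hq ⟨d z, ?_⟩
    rw [← hsnd, hz, Scheme.Hom.comp_apply]

end Groth.Agent.H53.ZMT
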