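import Mathlib.RingTheory.Unramified.LocalStructure

/-!
# A uniform bound for the number of field-valued points in the fibres of an unramified algebra
-/

set_option autoImplicit false
universe u
open Polynomial

namespace Groth.Agent.H53.ZMT

variable {A : Type u} [CommRing A]

/-- The number of `A`-algebra maps from a standard etale algebra to a field is bounded by the
degree. -/
theorem card_algHom_standardEtale_le (P : StandardEtalePair A) (K : Type u) [Field K]
    [Algebra A K] :
    Finite (P.Ring →ₐ[A] K) ∧ Nat.card (P.Ring →ₐ[A] K) ≤ P.f.natDegree := by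
  classical
  have hmonic : (P.f.map (algebraMap A K)).Monic := P.monic_f.map _
  let r : Finset K := (P.f.map (algebraMap A K)).roots.toFinset
  have hmem : ∀ φ : P.Ring →ₐ[A] K, φ P.X ∈ r := by
    intro φ
    have h := (StandardEtalePair.hasMap_X.map φ).1
    simp only [r, Multiset.mem_toFinset]
    rw [Polynomial.mem_roots hmonic.ne_zero, Polynomial.IsRoot.def, Polynomial.eval_map,
      ← Polynomial.aeval_def]
    exact h
  let F : (P.Ring →ₐ[A] K) → r := fun φ => ⟨φ P.X, hmem φ⟩
  have hF : Function.Injective F := fun φ ψ h => P.hom_ext (Subtype.ext_iff.1 h)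
  have hfin : Finite (P.Ring →ₐ[A] K) := Finite.of_injective F hF
  refine ⟨hfin, ?_⟩
  calc Nat.card (P.Ring →ₐ[A] K) ≤ Nat.card r := Nat.card_le_card_of_injective F hF
    _ = r.card := by simp
    _ ≤ Multiset.card (P.f.map (algebraMap A K)).roots := Multiset.toFinset_card_le _
    _ ≤ (P.f.map (algebraMap A K)).natDegree := Polynomial.card_roots' _
    _ = P.f.natDegree := P.monic_f.natDegree_map _

variable {C : Type u} [CommRing C] [Algebra A C]

/-- A finite type formally unramified algebra has uniformly bounded numbers of field-valued points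
in its fibres. -/
theorem exists_bound_algHom_of_unramified [Algebra.FiniteType A C] [Algebra.FormallyUnramified A C] :
    ∃ n : ℕ, ∀ (K : Type u) [Field K] [Algebra A K],
      Finite (C →ₐ[A] K) ∧ Nat.card (C →ₐ[A] K) ≤ n := by
  classical
  have hex : ∀ Q : PrimeSpectrum C, ∃ f ∉ Q.asIdeal, HasStandardEtaleSurjectionOn A f := by
    intro Q
    exact Algebra.IsUnramifiedAt.exists_hasStandardEtaleSurjectionOn (R := A) Q.asIdeal
  choose f hfQ hf using hex
  have hspan : Ideal.span (Set.range f) = ⊤ := by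
    by_contra hne
    obtain ⟨M, hM, hle⟩ := Ideal.exists_le_maximal _ hne
    exact hfQ ⟨M, hM.isPrime⟩ (hle (Ideal.subset_span ⟨⟨M, hM.isPrime⟩, rfl⟩))
  obtain ⟨t', ht', ht'span⟩ := (Ideal.span_eq_top_iff_finite _).1 hspan
  -- a finite set of primes
  have hQ : ∀ c : t', ∃ Q : PrimeSpectrum C, f Q = c.1 := fun c => ht' c.2
  choose Qof hQof using hQ
  let t : Finset (PrimeSpectrum C) := t'.attach.image Qof
  have htspan : Ideal.span ((fun Q => f Q) '' (t : Set (PrimeSpectrum C))) = ⊤ := by
    rw [eq_top_iff, ← ht'span]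
    apply Ideal.span_mono
    intro c hc
    exact ⟨Qof ⟨c, hc⟩, by simpa [t] using ⟨c, hc, rfl⟩, hQof ⟨c, hc⟩⟩
  choose P φ hφ using hf
  refine ⟨∏ Q ∈ t, ((P Q).f.natDegree + 1), ?_⟩
  intro K _ _
  -- the comparison map
  let G : (C →ₐ[A] K) → ∀ Q : t, Option (Localization.Away (f Q.1) →ₐ[A] K) := fun ψ Q =>
    if h : IsUnit (ψ (f Q.1)) then some (IsLocalization.Away.liftAlgHom (f Q.1) h) else none
  have hfinQ : ∀ Q : PrimeSpectrum C, Finite (Localization.Away (f Q) →ₐ[A] K) ∧
      Nat.card (Localization.Away (f Q) →ₐ[A] K) ≤ (P Q).f.natDegree := by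
    intro Q
    obtain ⟨h1, h2⟩ := card_algHom_standardEtale_le (P Q) K
    let c : (Localization.Away (f Q) →ₐ[A] K) → ((P Q).Ring →ₐ[A] K) := fun g => g.comp (φ Q)
    have hc : Function.Injective c := fun g g' h => (AlgHom.cancel_right (hφ Q)).1 h
    have : Finite (Localization.Away (f Q) →ₐ[A] K) := Finite.of_injective c hc
    exact ⟨this, (Nat.card_le_card_of_injective c hc).trans h2⟩
  have hG : Function.Injective G := by
    intro ψ ψ' h
    -- some `f Q` is not killed by `ψ`
    have hex : ∃ Q ∈ t, ψ (f Q) ≠ 0 := by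
      by_contra hcon
      push_neg at hcon
      have h1 : Ideal.span ((fun Q => f Q) '' (t : Set (PrimeSpectrum C))) ≤ RingHom.ker ψ := by
        rw [Ideal.span_le]
        rintro _ ⟨Q, hQ, rfl⟩
        exact hcon Q hQ
      rw [htspan, top_le_iff] at h1
      have : (1 : C) ∈ RingHom.ker ψ := h1 ▸ Submodule.mem_top
      simp [RingHom.mem_ker] at this
    obtain ⟨Q, hQ, hne⟩ := hex
    have hu : IsUnit (ψ (f Q)) := isUnit_iff_ne_zero.2 hne
    have hQeq := congrFun h ⟨Q, hQ⟩
    simp only [G, dif_pos hu] at hQeq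
    by_cases hu' : IsUnit (ψ' (f Q))
    · simp only [dif_pos hu'] at hQeq
      have heq := Option.some.inj hQeq
      ext c
      have := congrArg (fun g => g (algebraMap C (Localization.Away (f Q)) c)) heq
      simpa using this
    · simp only [dif_neg hu'] at hQeq
      exact absurd hQeq (by simp)
  have : ∀ Q : t, Finite (Localization.Away (f Q.1) →ₐ[A] K) := fun Q => (hfinQ Q.1).1
  have hfin : Finite (C →ₐ[A] K) := Finite.of_injective G hG
  refine ⟨hfin, ?_⟩
  calc Nat.card (C →ₐ[A] K)
      ≤ Nat.card (∀ Q : t, Option (Localization.Away (f Q.1) →ₐ[A] K)) :=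
        Nat.card_le_card_of_injective G hG
    _ = ∏ Q : t, Nat.card (Option (Localization.Away (f Q.1) →ₐ[A] K)) := Nat.card_pi
    _ = ∏ Q : t, (Nat.card (Localization.Away (f Q.1) →ₐ[A] K) + 1) := by
        refine Finset.prod_congr rfl (fun Q _ => ?_)
        exact Finite.card_option
    _ ≤ ∏ Q : t, ((P Q.1).f.natDegree + 1) := by
        refine Finset.prod_le_prod' (fun Q _ => ?_)
        exact Nat.succ_le_succ (hfinQ Q.1).2
    _ = ∏ Q ∈ t, ((P Q).f.natDegree + 1) := by
        rw [← Finset.prod_coe_sort t (fun Q => (P Q).f.natDegree + 1)]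

end Groth.Agent.H53.ZMT
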