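import Groth.Agent.H53.ZMT.Deg
import Groth.Agent.H53.ZMT.DegAlg

/-!
# Etale morphisms of affine schemes have bounded fibre degree
-/

set_option autoImplicit false
universe u
open CategoryTheory CategoryTheory.Limits AlgebraicGeometry

namespace Groth.Agent.H53.ZMT

theorem exists_degLE_of_etale {X Y : Scheme.{u}} [IsAffine X] [IsAffine Y] (e : X ⟶ Y)
    [Etale e] : ∃ n, DegLE e n := by
  have hφ : e.appTop.hom.Etale :=
    (HasRingHomProperty.iff_of_isAffine (P := @Etale)).1 inferInstance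
  algebraize [e.appTop.hom]
  have hft : Algebra.FiniteType Γ(Y, ⊤) Γ(X, ⊤) := inferInstance
  have hun : Algebra.FormallyUnramified Γ(Y, ⊤) Γ(X, ⊤) := inferInstance
  obtain ⟨n, hn⟩ := exists_bound_algHom_of_unramified (A := Γ(Y, ⊤)) (C := Γ(X, ⊤))
  refine ⟨n, fun K _ y s hs => ?_⟩
  let ψy : Γ(Y, ⊤) →+* K := (Spec.preimage (y ≫ Y.isoSpec.hom)).hom
  let _ : Algebra Γ(Y, ⊤) K := ψy.toAlgebra
  obtain ⟨hfin, hcard⟩ := hn K
  have hcomm : ∀ x : s, ∀ r : Γ(Y, ⊤),
      (Spec.preimage (x.1 ≫ X.isoSpec.hom)).hom (algebraMap Γ(Y, ⊤) Γ(X, ⊤) r) =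
        algebraMap Γ(Y, ⊤) K r := by
    intro x r
    have h1 : (x.1 ≫ X.isoSpec.hom) ≫ Spec.map e.appTop = y ≫ Y.isoSpec.hom := by
      rw [Category.assoc, Scheme.isoSpec_hom_naturality e, ← Category.assoc, hs x.1 x.2]
    have h2 : e.appTop ≫ Spec.preimage (x.1 ≫ X.isoSpec.hom) =
        Spec.preimage (y ≫ Y.isoSpec.hom) := by
      apply Spec.map_injective
      rw [Spec.map_comp, Spec.map_preimage, Spec.map_preimage, h1]
    exact congrArg (fun g => g.hom r) h2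
  let F : s → (Γ(X, ⊤) →ₐ[Γ(Y, ⊤)] K) := fun x =>
    { toRingHom := (Spec.preimage (x.1 ≫ X.isoSpec.hom)).hom
      commutes' := hcomm x }
  have hF : Function.Injective F := by
    intro x x' h
    apply Subtype.ext
    have h1 : (Spec.preimage (x.1 ≫ X.isoSpec.hom)).hom =
        (Spec.preimage (x'.1 ≫ X.isoSpec.hom)).hom := congrArg (fun g => g.toRingHom) h
    have h2 : Spec.preimage (x.1 ≫ X.isoSpec.hom) = Spec.preimage (x'.1 ≫ X.isoSpec.hom) :=
      CommRingCat.hom_ext h1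
    have h3 := congrArg Spec.map h2
    rw [Spec.map_preimage, Spec.map_preimage] at h3
    exact (cancel_mono X.isoSpec.hom).1 h3
  calc s.card = Nat.card s := by simp
    _ ≤ Nat.card (Γ(X, ⊤) →ₐ[Γ(Y, ⊤)] K) := Nat.card_le_card_of_injective F hF
    _ ≤ n := hcard

end Groth.Agent.H53.ZMT
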