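import Groth.Prelude.Def_AlgSp
import Groth.Prelude.Def_Grpd

/-!
# The groupoid scheme of an equivalence relation
-/

set_option autoImplicit false
universe u
open CategoryTheory CategoryTheory.Limits AlgebraicGeometry

namespace Groth.Agent.H53.ZMT

open AlgSp

variable {S : Scheme.{u}} {R U : Over S} {s t : R ⟶ U}

/-- Injectivity of `(t, s)` on scheme-valued points (not necessarily over `S`). -/
theorem IsEqvRel.inj (h : IsEqvRel s t) {T : Scheme.{u}} (r r' : T ⟶ R.left)
    (h1 : r ≫ t.left = r' ≫ t.left) (h2 : r ≫ s.left = r' ≫ s.left) : r = r' := by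
  have hw : r' ≫ R.hom = r ≫ R.hom := by
    rw [← Over.w t, ← Category.assoc, ← h1, Category.assoc]
  have := h.injective (Over.mk (r ≫ R.hom)) (Over.homMk r rfl) (Over.homMk r' hw)
    (by ext1; exact h1) (by ext1; exact h2)
  exact congrArg (fun f => f.left) this

theorem IsEqvRel.exists_refl (h : IsEqvRel s t) :
    ∃ e : U.left ⟶ R.left, e ≫ t.left = 𝟙 _ ∧ e ≫ s.left = 𝟙 _ := by
  obtain ⟨r, h1, h2⟩ := (h.equivalence U).refl (𝟙 U)
  exact ⟨r.left, congrArg (fun f => f.left) h1, congrArg (fun f => f.left) h2⟩

theorem IsEqvRel.exists_symm (h : IsEqvRel s t) :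
    ∃ i : R.left ⟶ R.left, i ≫ t.left = s.left ∧ i ≫ s.left = t.left := by
  obtain ⟨r, h1, h2⟩ := (h.equivalence R).symm
    (⟨𝟙 R, Category.id_comp _, Category.id_comp _⟩ : ∃ r : R ⟶ R, r ≫ t = t ∧ r ≫ s = s)
  exact ⟨r.left, congrArg (fun f => f.left) h1, congrArg (fun f => f.left) h2⟩

theorem IsEqvRel.exists_trans (h : IsEqvRel s t) :
    ∃ c : pullback s.left t.left ⟶ R.left,
      c ≫ t.left = pullback.fst s.left t.left ≫ t.left ∧
      c ≫ s.left = pullback.snd s.left t.left ≫ s.left := by
  let P : Over S := Over.mk (pullback.fst s.left t.left ≫ R.hom)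
  let a : P ⟶ R := Over.homMk (pullback.fst s.left t.left) rfl
  let b : P ⟶ R := Over.homMk (pullback.snd s.left t.left) (by
    change pullback.snd s.left t.left ≫ R.hom = pullback.fst s.left t.left ≫ R.hom
    rw [← Over.w t, ← Category.assoc, ← pullback.condition, Category.assoc, Over.w s, Over.w t])
  have hab : a ≫ s = b ≫ t := by
    ext1
    exact pullback.condition
  obtain ⟨r, h1, h2⟩ := (h.equivalence P).trans
    (⟨a, rfl, rfl⟩ : ∃ r : P ⟶ R, r ≫ t = a ≫ t ∧ r ≫ s = a ≫ s)
    (⟨b, hab.symm, rfl⟩ : ∃ r : P ⟶ R, r ≫ t = a ≫ s ∧ r ≫ s = b ≫ s)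
  exact ⟨r.left, congrArg (fun f => f.left) h1, congrArg (fun f => f.left) h2⟩

/-- The groupoid scheme attached to an equivalence relation. -/
noncomputable def grpdOfEqv (s t : R ⟶ U) (h : IsEqvRel s t) : Grpd.GroupoidScheme S where
  U := U.left
  R := R.left
  pU := U.hom
  pR := R.hom
  s := s.left
  t := t.left
  e := (IsEqvRel.exists_refl h).choose
  i := (IsEqvRel.exists_symm h).choose
  c := (IsEqvRel.exists_trans h).choose
  s_over := Over.w s
  t_over := Over.w t
  comp_s α β hαβ := by
    rw [Category.assoc, (IsEqvRel.exists_trans h).choose_spec.2, pullback.lift_snd_assoc]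
  comp_t α β hαβ := by
    rw [Category.assoc, (IsEqvRel.exists_trans h).choose_spec.1, pullback.lift_fst_assoc]
  assoc α β γ h₁ h₂ := by
    apply IsEqvRel.inj h
    · simp only [Category.assoc, (IsEqvRel.exists_trans h).choose_spec.1, pullback.lift_fst_assoc]
    · simp only [Category.assoc, (IsEqvRel.exists_trans h).choose_spec.2, pullback.lift_snd_assoc]
  e_s := (IsEqvRel.exists_refl h).choose_spec.2
  e_t := (IsEqvRel.exists_refl h).choose_spec.1
  comp_e α := by
    apply IsEqvRel.inj h
    · simp only [Category.assoc, (IsEqvRel.exists_trans h).choose_spec.1, pullback.lift_fst_assoc]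
    · simp only [Category.assoc, (IsEqvRel.exists_trans h).choose_spec.2, pullback.lift_snd_assoc,
        (IsEqvRel.exists_refl h).choose_spec.2, Category.comp_id]
  e_comp α := by
    apply IsEqvRel.inj h
    · simp only [Category.assoc, (IsEqvRel.exists_trans h).choose_spec.1, pullback.lift_fst_assoc,
        (IsEqvRel.exists_refl h).choose_spec.1, Category.comp_id]
    · simp only [Category.assoc, (IsEqvRel.exists_trans h).choose_spec.2, pullback.lift_snd_assoc]
  i_s := (IsEqvRel.exists_symm h).choose_spec.2
  i_t := (IsEqvRel.exists_symm h).choose_spec.1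
  comp_i α := by
    apply IsEqvRel.inj h
    · simp only [Category.assoc, (IsEqvRel.exists_trans h).choose_spec.1, pullback.lift_fst_assoc,
        (IsEqvRel.exists_refl h).choose_spec.1, Category.comp_id]
    · simp only [Category.assoc, (IsEqvRel.exists_trans h).choose_spec.2, pullback.lift_snd_assoc,
        (IsEqvRel.exists_refl h).choose_spec.2, (IsEqvRel.exists_symm h).choose_spec.2,
        Category.comp_id]
  i_comp α := by
    apply IsEqvRel.inj h
    · simp only [Category.assoc, (IsEqvRel.exists_trans h).choose_spec.1, pullback.lift_fst_assoc,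
        (IsEqvRel.exists_refl h).choose_spec.1, (IsEqvRel.exists_symm h).choose_spec.1,
        Category.comp_id]
    · simp only [Category.assoc, (IsEqvRel.exists_trans h).choose_spec.2, pullback.lift_snd_assoc,
        (IsEqvRel.exists_refl h).choose_spec.2, Category.comp_id]

instance mono_j_grpdOfEqv (h : IsEqvRel s t) : Mono (grpdOfEqv s t h).j := by
  constructor
  intro T r r' hrr'
  apply IsEqvRel.inj h
  · have := congrArg (· ≫ pullback.fst _ _) hrr'
    simp only [Grpd.GroupoidScheme.j, Category.assoc] at this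
    rw [pullback.lift_fst] at this
    exact this
  · have := congrArg (· ≫ pullback.snd _ _) hrr'
    simp only [Grpd.GroupoidScheme.j, Category.assoc] at this
    rw [pullback.lift_snd] at this
    exact this

end Groth.Agent.H53.ZMT
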