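import Mathlib.AlgebraicGeometry.ZariskisMainTheorem
import Mathlib.AlgebraicGeometry.QuasiAffine

/-!
# Separated quasi-finite schemes over an affine scheme are quasi-affine
-/

set_option autoImplicit false
universe u
open CategoryTheory CategoryTheory.Limits AlgebraicGeometry

namespace Groth.Agent.H53.ZMT

theorem isQuasiAffine_of_lqf_separated {G T : Scheme.{u}} [IsAffine T] (f : G ⟶ T)
    [LocallyQuasiFinite f] [LocallyOfFiniteType f] [IsSeparated f] [QuasiCompact f] :
    G.IsQuasiAffine := by
  have h1 : IsOpenImmersion f.toNormalization := inferInstance
  have h2 : IsAffineHom f.fromNormalization := inferInstance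
  have h3 : IsAffine f.normalization := isAffine_of_isAffineHom f.fromNormalization
  have h4 : CompactSpace ↥G := QuasiCompact.compactSpace_of_compactSpace f
  exact Scheme.IsQuasiAffine.of_isImmersion f.toNormalization

end Groth.Agent.H53.ZMT
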