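import Groth.Agent.H53.ZMT.LocalStr2
import Groth.Agent.H52.FibreProdFinite

/-!
# Etale localization of finitely many quasi-finite points (schemes)

Given finitely many morphisms `h i : Z i ⟶ T` locally of finite type, points `z i` quasi-finite
over a common point of `T`, there is one elementary etale neighbourhood of the point of `T` over
which every `Z i` has an open part, finite over the neighbourhood, with exactly one point in the
fibre; this point lies over `z i`.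
-/

set_option autoImplicit false
universe u
open CategoryTheory CategoryTheory.Limits AlgebraicGeometry

namespace Groth.Agent.H53.ZMT

theorem exists_point_of_isPullback_scheme {P X Y Z : Scheme.{u}} {fst : P ⟶ X} {snd : P ⟶ Y}
    {f : X ⟶ Z} {g : Y ⟶ Z} (sq : IsPullback fst snd f g) (x : X) (y : Y) (h : f x = g y) :
    ∃ p : P, fst p = x ∧ snd p = y := by
  obtain ⟨p, hp1, hp2⟩ := Scheme.Pullback.exists_preimage_pullback x y h
  refine ⟨sq.isoPullback.inv p, ?_, ?_⟩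
  · rw [← Scheme.Hom.comp_apply, sq.isoPullback_inv_fst]; exact hp1
  · rw [← Scheme.Hom.comp_apply, sq.isoPullback_inv_snd]; exact hp2

theorem quasiFiniteAt_of_isPullback_scheme {U V T U' : Scheme.{u}} {h : U ⟶ V} {t : T ⟶ V}
    {s : U' ⟶ U} {h' : U' ⟶ T} (sq : IsPullback s h' h t) [LocallyOfFiniteType h] (u : U)
    (hq : h.QuasiFiniteAt u) (u' : U') (hu' : s u' = u) : h'.QuasiFiniteAt u' :=
  Groth.Agent.H52.FibreProdFinite.quasiFiniteAt_of_isPullback sq u
    (Groth.Agent.H52.qfNear_of_quasiFiniteAt h u hq) u' hu'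

theorem exists_elementary_etale_finite_family {T : Scheme.{u}} {ι : Type*} (s : Finset ι)
    (Z : ι → Scheme.{u}) (h : ∀ i, Z i ⟶ T) [∀ i, LocallyOfFiniteType (h i)] (z : ∀ i, Z i)
    {K : Type u} [Field K] (τ : Spec (.of K) ⟶ T)
    (hz : ∀ i ∈ s, (∀ w, τ w = h i (z i)) ∧ (h i).QuasiFiniteAt (z i)) :
    ∃ (T' : Scheme.{u}) (g : T' ⟶ T) (σ : Spec (.of K) ⟶ T'), IsAffine T' ∧ Etale g ∧
      σ ≫ g = τ ∧
      ∀ i ∈ s, ∀ (Z' : Scheme.{u}) (fst : Z' ⟶ Z i) (snd : Z' ⟶ T'),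
        IsPullback fst snd (h i) g →
        ∃ V : Z'.Opens, IsFinite (V.ι ≫ snd) ∧
          (∃ v ∈ V, fst v = z i ∧ ∀ w, snd v = σ w) ∧
          ∀ q ∈ V, (∃ w, snd q = σ w) → fst q = z i := by
  classical
  induction s using Finset.induction_on with
  | empty =>
    obtain ⟨_, ⟨(U : T.Opens), hU, rfl⟩, htU, -⟩ := T.isBasis_affineOpens.exists_subset_of_mem_open
      (Set.mem_univ (τ (IsLocalRing.closedPoint K))) isOpen_univ
    have hr : Set.range τ ⊆ Set.range U.ι := by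
      rintro _ ⟨w, rfl⟩
      rw [Scheme.Opens.range_ι]
      have : w = IsLocalRing.closedPoint K := Subsingleton.elim (α := PrimeSpectrum K) _ _
      rw [this]; exact htU
    have hUaff : IsAffine (U : Scheme.{u}) := hU
    exact ⟨U, U.ι, IsOpenImmersion.lift U.ι τ hr, hUaff, inferInstance,
      IsOpenImmersion.lift_fac _ _ _, fun i hi => absurd hi (Finset.notMem_empty i)⟩
  | insert i₀ s' hi₀ IH =>
    obtain ⟨T₁, g₁, σ₁, hT₁, hg₁, hσ₁, H₁⟩ := IH (fun i hi => hz i (Finset.mem_insert_of_mem hi))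
    obtain ⟨hτ₀, hq₀⟩ := hz i₀ (Finset.mem_insert_self _ _)
    -- a point of the base change of `Z i₀` over `z i₀` and the point of `T₁`
    have hpt : h i₀ (z i₀) = g₁ (σ₁ (IsLocalRing.closedPoint K)) := by
      rw [← Scheme.Hom.comp_apply, hσ₁, hτ₀]
    obtain ⟨z₁, hz₁1, hz₁2⟩ := Scheme.Pullback.exists_preimage_pullback (f := h i₀) (g := g₁)
      (z i₀) (σ₁ (IsLocalRing.closedPoint K)) hpt
    have hq₁ : (pullback.snd (h i₀) g₁).QuasiFiniteAt z₁ :=
      quasiFiniteAt_of_isPullback_scheme (IsPullback.of_hasPullback (h i₀) g₁) (z i₀) hq₀ z₁ hz₁1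
    have hτ₁ : ∀ w, σ₁ w = pullback.snd (h i₀) g₁ z₁ := by
      intro w
      rw [hz₁2]
      congr 1
      exact Subsingleton.elim (α := PrimeSpectrum K) _ _
    obtain ⟨T₂, g₂, σ₂, hT₂, hg₂, hσ₂, H₂⟩ :=
      exists_elementary_etale_finite_of_quasiFiniteAt' (pullback.snd (h i₀) g₁) z₁ hq₁ σ₁ hτ₁
    refine ⟨T₂, g₂ ≫ g₁, σ₂, hT₂, inferInstance, by rw [← Category.assoc, hσ₂, hσ₁], ?_⟩
    intro i hi Z' fst snd sq
    -- the map to the intermediate pullback
    have hw : fst ≫ h i = (snd ≫ g₂) ≫ g₁ := by rw [Category.assoc]; exact sq.w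
    set k : Z' ⟶ pullback (h i) g₁ := pullback.lift fst (snd ≫ g₂) hw with hk
    have hk1 : k ≫ pullback.fst (h i) g₁ = fst := pullback.lift_fst _ _ _
    have hk2 : k ≫ pullback.snd (h i) g₁ = snd ≫ g₂ := pullback.lift_snd _ _ _
    have sqk : IsPullback k snd (pullback.snd (h i) g₁) g₂ := by
      refine IsPullback.of_right ?_ hk2 (IsPullback.of_hasPullback (h i) g₁)
      rw [hk1]; exact sq
    have hfst : ∀ q, fst q = pullback.fst (h i) g₁ (k q) := fun q => by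
      rw [← Scheme.Hom.comp_apply, hk1]
    have hsnd : ∀ q, pullback.snd (h i) g₁ (k q) = g₂ (snd q) := fun q => by
      rw [← Scheme.Hom.comp_apply, hk2, Scheme.Hom.comp_apply]
    have hσ₂' : ∀ w, g₂ (σ₂ w) = σ₁ w := fun w => by
      rw [← Scheme.Hom.comp_apply, hσ₂]
    rcases Finset.mem_insert.1 hi with rfl | hi'
    · obtain ⟨V, hVfin, ⟨v, hvV, hv1, hv2⟩, hVu⟩ := H₂ Z' k snd sqk
      refine ⟨V, hVfin, ⟨v, hvV, ?_, hv2⟩, ?_⟩
      · rw [hfst, hv1, hz₁1]
      · intro q hq hqs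
        rw [hfst, hVu q hq hqs, hz₁1]
    · obtain ⟨V₁, hV₁fin, ⟨v₁, hv₁V, hv₁1, hv₁2⟩, hV₁u⟩ :=
        H₁ i hi' _ _ _ (IsPullback.of_hasPullback (h i) g₁)
      have sq1 : IsPullback (k ∣_ V₁) (k ⁻¹ᵁ V₁).ι V₁.ι k := isPullback_morphismRestrict k V₁
      have sq2 : IsPullback (k ∣_ V₁) ((k ⁻¹ᵁ V₁).ι ≫ snd) (V₁.ι ≫ pullback.snd (h i) g₁) g₂ :=
        sq1.paste_vert sqk
      have hfin : IsFinite ((k ⁻¹ᵁ V₁).ι ≫ snd) :=
        MorphismProperty.of_isPullback (P := @IsFinite) sq2 hV₁fin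
      have hpt' : pullback.snd (h i) g₁ v₁ = g₂ (σ₂ (IsLocalRing.closedPoint K)) := by
        rw [hσ₂', hv₁2]
      obtain ⟨v, hv1, hv2⟩ := exists_point_of_isPullback_scheme sqk v₁ _ hpt'
      refine ⟨k ⁻¹ᵁ V₁, hfin, ⟨v, ?_, ?_, ?_⟩, ?_⟩
      · change k v ∈ V₁
        rw [hv1]; exact hv₁V
      · rw [hfst, hv1, hv₁1]
      · intro w
        rw [hv2]
        congr 1
        exact Subsingleton.elim (α := PrimeSpectrum K) _ _
      · rintro q hq ⟨w, hw⟩
        rw [hfst]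
        refine hV₁u (k q) hq ⟨w, ?_⟩
        rw [hsnd, hw, hσ₂']

end Groth.Agent.H53.ZMT
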