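import Groth.Agent.H53.ZMT.GenFinDense5
import Groth.Agent.H52.DimZero2
import Groth.Agent.H52.DiagRel
import Groth.Agent.H53.ZMT.ElemFamily

/-!
# Finiteness of a fibre over a field valued point implies quasi-finiteness at the points of the fibre
-/

set_option autoImplicit false
universe u
open CategoryTheory CategoryTheory.Limits AlgebraicGeometry Opposite

namespace Groth.Agent.H53.ZMT

open AlgSp Groth.Agent.H50 Groth.Agent.H51

/-- A morphism locally of finite type is quasi-finite at the points of a finite fibre. -/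
theorem quasiFiniteAt_of_finite_fibre {X Y : Scheme.{u}} (f : X ⟶ Y) [LocallyOfFiniteType f]
    (x : X) (hfin : (f ⁻¹' {f x}).Finite) : f.QuasiFiniteAt x := by
  rw [Scheme.Hom.quasiFiniteAt_iff_isOpen_singleton_asFiber]
  have h1 : Finite ↥(f ⁻¹' {f x}) := hfin
  have h2 : Finite ↥(f.fiber (f x)) := Finite.of_equiv _ (f.fiberHomeo (f x)).symm.toEquiv
  have := Groth.Agent.H52.discreteTopology_of_finite_of_jacobsonSpace ↥(f.fiber (f x))
  exact isOpen_discrete _

variable {S : Scheme.{u}}

/-- Fibre products in `Over S` with the underlying square of schemes. -/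
theorem exists_over_pullback {U V Z : Over S} (h : U ⟶ V) (φ : Z ⟶ V) :
    ∃ (W : Over S) (p₁ : W ⟶ U) (p₂ : W ⟶ Z), IsPullback p₁ p₂ h φ ∧
      IsPullback p₁.left p₂.left h.left φ.left := by
  let W : Over S := Over.mk (pullback.fst h.left φ.left ≫ U.hom)
  let p₁ : W ⟶ U := Over.homMk (pullback.fst h.left φ.left) rfl
  let p₂ : W ⟶ Z := Over.homMk (pullback.snd h.left φ.left) (by
    change pullback.snd h.left φ.left ≫ Z.hom = pullback.fst h.left φ.left ≫ U.hom
    rw [← Over.w φ, ← Over.w h, ← Category.assoc, ← Category.assoc, pullback.condition])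
  have hl : IsPullback p₁.left p₂.left h.left φ.left := IsPullback.of_hasPullback h.left φ.left
  have hw : p₁ ≫ h = p₂ ≫ φ := by
    ext1
    exact hl.w
  exact ⟨W, p₁, p₂, IsPullback.of_map (Over.forget S) hw hl, hl⟩

/-- If the fibre of a morphism locally of finite type over a field valued point is a decent space
with finitely many points, the morphism is quasi-finite at every point over it. -/
theorem hasAtMor_qfAt_of_finite_points_fibre {X Y : AlgSp.Space S} (f : X ⟶ Y)
    (hf : LocP @LocallyOfFiniteType f.hom) (y : FieldPt Y.obj) {Xy : Sp S} (fst : Xy ⟶ X.obj)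
    (snd : Xy ⟶ (yon S).obj y.pt) (hsq : IsPullback fst snd f.hom y.toHom)
    (hdec : IsDecent Xy) (hfin : Finite (Points Xy)) (x : Points X.obj)
    (hx : Points.map f.hom x = Points.mk y) : HasAtMor QfAt f.hom x := by
  -- a chart of `Y` at `y`
  obtain ⟨V, b, hVaff, hbe, hbcov⟩ :=
    exists_affine_chart_covering Y.property {Points.mk y} (Set.finite_singleton _)
  obtain ⟨v, hv⟩ := hbcov _ rfl
  have hVaff' : IsAffine V.left := hVaff
  -- the base change to the chart and a chart of it
  let X₀ : Sp S := pullback f.hom b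
  let pr : X₀ ⟶ X.obj := pullback.fst f.hom b
  let f₀ : X₀ ⟶ (yon S).obj V := pullback.snd f.hom b
  have sq₀ : IsPullback pr f₀ f.hom b := IsPullback.of_hasPullback f.hom b
  have hVsp : IsAlgSpace ((yon S).obj V) := IsAlgSpace.yon_obj V
  have hX₀ : IsAlgSpace X₀ :=
    Groth.Agent.H49.isAlgSpace_of_isPullback sq₀ Y.property.diag X.property hVsp
  obtain ⟨x₀, hx₀1, hx₀2⟩ := points_exists_of_isPullback sq₀ x (Points.ofScheme V v) (by
    rw [hx, ← Points.ofPt_eq_map_ofScheme, hv])
  obtain ⟨U, m, hUaff, hme, hmcov⟩ :=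
    exists_affine_chart_covering hX₀ {x₀} (Set.finite_singleton _)
  obtain ⟨u, hu⟩ := hmcov _ rfl
  have hUaff' : IsAffine U.left := hUaff
  obtain ⟨h, hh⟩ := (yon S).map_surjective (m ≫ f₀)
  have hpre : RepWith @Etale pr := MorphismProperty.of_isPullback sq₀.flip hbe
  have hae : RepWith @Etale (m ≫ pr) := (RepWith @Etale).comp_mem _ _ hme hpre
  have hcomm : (m ≫ pr) ≫ f.hom = (yon S).map h ≫ b := by
    rw [Category.assoc, sq₀.w, ← Category.assoc, hh]
  have hhlft : LocallyOfFiniteType h.left := hf (m ≫ pr) b h hae hbe hcomm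
  have hux : Points.ofPt (m ≫ pr) u = x := by rw [← Points.map_ofPt, hu, hx₀1]
  have hhu : h.left u = v := by
    have h1 : Points.map f₀ (Points.ofPt m u) = Points.ofScheme V (h.left u) := by
      rw [Points.map_ofPt, ← hh, Groth.Agent.H52.ofPt_yon_map]
    rw [hu, hx₀2] at h1
    exact ((Points.schemeEquiv V).injective h1).symm
  suffices hfibre : (h.left ⁻¹' {v}).Finite by
    have hq : h.left.QuasiFiniteAt u :=
      quasiFiniteAt_of_finite_fibre h.left u (by rw [hhu]; exact hfibre)
    exact ⟨U, V, m ≫ pr, b, h, u, hae, hbe, hcomm, hux,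
      Groth.Agent.H52.qfNear_of_quasiFiniteAt h.left u hq⟩
  -- the fibre scheme of the chart of `Y`
  obtain ⟨Z, φ, ψ, hpb, hrange⟩ := Groth.Agent.H52.exists_fibre_scheme y b hbe.rep
  obtain ⟨z, hz⟩ : v ∈ Set.range φ.left := by rw [hrange]; exact hv
  obtain ⟨_, ⟨(Zo : Z.left.Opens), hZo, rfl⟩, hzZo, -⟩ :=
    Z.left.isBasis_affineOpens.exists_subset_of_mem_open (Set.mem_univ z) isOpen_univ
  obtain ⟨W₀, q₁, q₂, sqW, sqWl⟩ := exists_over_pullback h φ
  -- the etale map from `W₀` to the fibre
  have sqbig : IsPullback ((yon S).map q₂ ≫ (yon S).map ψ) ((yon S).map q₁) y.toHom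
      ((m ≫ pr) ≫ f.hom) := by
    rw [hcomm]
    exact (sqW.map (yon S)).flip.paste_horiz hpb.flip
  obtain ⟨c₀, -, sqc⟩ := exists_lift_isPullback hsq.flip sqbig
  have hc₀e : RepWith @Etale c₀ := MorphismProperty.of_isPullback sqc.flip hae
  -- the quasi-compact open part over `Zo`
  have haffh : IsAffineHom h.left := inferInstance
  have haffq : IsAffineHom q₂.left := MorphismProperty.of_isPullback (P := @IsAffineHom) sqWl haffh
  let N : W₀.left.Opens := q₂.left ⁻¹ᵁ Zo
  have hN : IsAffineOpen N := hZo.preimage q₂.left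
  let W : Over S := overOpen W₀ N
  have hWc : CompactSpace ↥W.left := isCompact_iff_compactSpace.1 hN.isCompact
  have hce : RepWith @Etale ((yon S).map (overOpenι W₀ N) ≫ c₀) := repWith_etale_restrict c₀ hc₀e N
  have hWfin : Finite ↥W.left := by
    have hcover : (Set.univ : Set ↥W.left) =
        ⋃ p : Points Xy, Points.ofPt ((yon S).map (overOpenι W₀ N) ≫ c₀) ⁻¹' {p} := by
      ext w
      simp only [Set.mem_univ, Set.mem_iUnion, Set.mem_preimage, Set.mem_singleton_iff,
        exists_eq']
    have hfinU : (Set.univ : Set ↥W.left).Finite := by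
      rw [hcover]
      exact Set.finite_iUnion fun p => finite_ofPt_preimage_of_isDecent hdec _ hce p
    exact Set.finite_univ_iff.1 hfinU
  have hNfin : (N : Set ↥W₀.left).Finite := by
    have : Finite ↥(N : Set ↥W₀.left) := hWfin
    exact Set.toFinite _
  refine (hNfin.image q₁.left).subset ?_
  intro u' hu'
  obtain ⟨w, hw1, hw2⟩ := exists_point_of_isPullback_scheme sqWl u' z (by
    rw [hz]; exact hu')
  refine ⟨w, ?_, hw1⟩
  change q₂.left w ∈ Zo
  rw [hw2]
  exact hzZo

end Groth.Agent.H53.ZMT
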