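import Groth.Agent.H53.ZMT.GenFinDense2
import Groth.Agent.H52.Special

/-!
# Charts of a decent space with a unique generic point, and generic points of base changes
-/

set_option autoImplicit false
universe u
open CategoryTheory CategoryTheory.Limits AlgebraicGeometry Opposite

namespace Groth.Agent.H53.ZMT

open AlgSp Groth.Agent.H50 Groth.Agent.H51

variable {S : Scheme.{u}}

/-- The fibres of a quasi-compact etale chart of a decent space are finite. -/
theorem finite_ofPt_preimage_of_isDecent {Y : Sp S} (hY : IsDecent Y) {U : Over S}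
    [CompactSpace ↥U.left] (a : (yon S).obj U ⟶ Y) (ha : RepWith @Etale a) (y : Points Y) :
    (Points.ofPt a ⁻¹' {y}).Finite := by
  obtain ⟨q, hq, -, hqc⟩ := hY y
  have := Groth.Agent.H52.finite_fibre_of_quasiCompact_point q hqc a ha
  rwa [hq] at this

/-- A codimension zero point of a decent space with finitely many codimension zero points has an
affine etale chart in which the point over it is the only point with zero-dimensional local
ring. -/
theorem exists_affine_chart_unique_codimZero (Y : AlgSp.Space S) (hY : IsDecent Y.obj)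
    (hY0 : {y : Points Y.obj |
      HasAt (fun U u => ringKrullDim ↥(U.presheaf.stalk u) = 0) Y.obj y}.Finite)
    (y : Points Y.obj) (hy : HasAt (fun U u => ringKrullDim ↥(U.presheaf.stalk u) = 0) Y.obj y) :
    ∃ (T₀ : Over S) (b₀ : (yon S).obj T₀ ⟶ Y.obj) (t₀ : ↥T₀.left), IsAffine T₀.left ∧
      RepWith @Etale b₀ ∧ Points.ofPt b₀ t₀ = y ∧
      ringKrullDim (T₀.left.presheaf.stalk t₀) = 0 ∧
      ∀ t : ↥T₀.left, ringKrullDim (T₀.left.presheaf.stalk t) = 0 → t = t₀ := by
  obtain ⟨B, β, b, hβe, hb, hdim⟩ := hy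
  obtain ⟨_, ⟨(B₀ : B.left.Opens), hB₀, rfl⟩, hbB₀, -⟩ :=
    B.left.isBasis_affineOpens.exists_subset_of_mem_open (Set.mem_univ b) isOpen_univ
  let U : Over S := overOpen B B₀
  have hUaff : IsAffine U.left := hB₀
  set a : (yon S).obj U ⟶ Y.obj := (yon S).map (overOpenι B B₀) ≫ β with hadef
  have hae : RepWith @Etale a := repWith_etale_restrict β hβe B₀
  let u : ↥U.left := ⟨b, hbB₀⟩
  have hu : Points.ofPt a u = y := (ofPt_restrict β B₀ u).trans hb
  have hdimu : ringKrullDim (U.left.presheaf.stalk u) = 0 := by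
    have e : B₀.ι u = b := rfl
    rw [ringKrullDim_stalk_eq_coheight, ← coheight_eq_of_isOpenImmersion B₀.ι, e,
      ← ringKrullDim_stalk_eq_coheight]
    exact hdim
  -- the other points with zero-dimensional local ring
  let Z : Set ↥U.left := {u' | ringKrullDim (U.left.presheaf.stalk u') = 0 ∧ u' ≠ u}
  have hZfin : Z.Finite := by
    refine (Set.Finite.biUnion hY0 (fun y' _ =>
      finite_ofPt_preimage_of_isDecent hY a hae y')).subset ?_
    rintro u' ⟨hu', -⟩
    exact Set.mem_biUnion (show Points.ofPt a u' ∈ _ from ⟨U, a, u', hae, rfl, hu'⟩) rfl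
  have hDcl : IsClosed (⋃ z ∈ Z, closure ({z} : Set ↥U.left)) :=
    hZfin.isClosed_biUnion fun z _ => isClosed_closure
  have huD : u ∉ ⋃ z ∈ Z, closure ({z} : Set ↥U.left) := by
    intro hmem
    obtain ⟨z, hz, hzu⟩ := Set.mem_iUnion₂.1 hmem
    have hspec : z ⤳ u := specializes_iff_mem_closure.2 hzu
    exact hz.2 ((Groth.Agent.H52.CZ.stalk_dim_zero_iff u).1 hdimu z hspec)
  obtain ⟨_, ⟨(T' : U.left.Opens), hT', rfl⟩, huT', hT'sub⟩ :=
    U.left.isBasis_affineOpens.exists_subset_of_mem_open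
      (show u ∈ (⋃ z ∈ Z, closure ({z} : Set ↥U.left))ᶜ from huD) hDcl.isOpen_compl
  refine ⟨overOpen U T', (yon S).map (overOpenι U T') ≫ a, ⟨u, huT'⟩, hT',
    repWith_etale_restrict a hae T', (ofPt_restrict a T' ⟨u, huT'⟩).trans hu, ?_, ?_⟩
  · have e : T'.ι ⟨u, huT'⟩ = u := rfl
    rw [ringKrullDim_stalk_eq_coheight, ← coheight_eq_of_isOpenImmersion T'.ι, e,
      ← ringKrullDim_stalk_eq_coheight]
    exact hdimu
  · intro t ht
    have ht' : ringKrullDim (U.left.presheaf.stalk (T'.ι t)) = 0 := by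
      rw [ringKrullDim_stalk_eq_coheight, coheight_eq_of_isOpenImmersion T'.ι,
        ← ringKrullDim_stalk_eq_coheight]
      exact ht
    by_contra hne
    have hne' : T'.ι t ≠ u := fun h => hne (Subtype.ext h)
    have hmemZ : T'.ι t ∈ Z := ⟨ht', hne'⟩
    have h1 : T'.ι t ∈ ⋃ z ∈ Z, closure ({z} : Set ↥U.left) :=
      Set.mem_biUnion hmemZ (subset_closure rfl)
    exact hT'sub t.2 h1


/-- For a morphism `f` under which codimension zero points correspond, a chart `T₀` of the target
with a unique point `t₀` with zero-dimensional local ring, lying over a codimension zero point, and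
a chart `W` of the base change of the source to `T₀`: the points of `W` over `t₀` are exactly the
points of `W` with zero-dimensional local ring. -/
theorem chart_codimZero_iff {X Y : AlgSp.Space S} (f : X ⟶ Y)
    (hpre : ∀ x : Points X.obj,
      HasAt (fun U u => ringKrullDim ↥(U.presheaf.stalk u) = 0) X.obj x ↔
        HasAt (fun U u => ringKrullDim ↥(U.presheaf.stalk u) = 0) Y.obj (Points.map f.hom x))
    {T₀ : Over S} (b₀ : (yon S).obj T₀ ⟶ Y.obj) (hb₀ : RepWith @Etale b₀) (t₀ : ↥T₀.left)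
    (hdim : ringKrullDim (T₀.left.presheaf.stalk t₀) = 0)
    (huniq : ∀ t : ↥T₀.left, ringKrullDim (T₀.left.presheaf.stalk t) = 0 → t = t₀)
    {X₀ : Sp S} (pr : X₀ ⟶ X.obj) (f₀ : X₀ ⟶ (yon S).obj T₀)
    (sq₀ : IsPullback pr f₀ f.hom b₀) {W : Over S} (m : (yon S).obj W ⟶ X₀)
    (hme : RepWith @Etale m) (h : W ⟶ T₀) (hh : (yon S).map h = m ≫ f₀) (w : ↥W.left) :
    ringKrullDim (W.left.presheaf.stalk w) = 0 ↔ h.left w = t₀ := by
  have hpr : RepWith @Etale pr := MorphismProperty.of_isPullback sq₀.flip hb₀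
  have hae : RepWith @Etale (m ≫ pr) := (RepWith @Etale).comp_mem _ _ hme hpr
  have e : (m ≫ pr) ≫ f.hom = (yon S).map h ≫ b₀ := by
    rw [Category.assoc, sq₀.w, ← Category.assoc, hh]
  have key : Points.map f.hom (Points.ofPt (m ≫ pr) w) = Points.ofPt b₀ (h.left w) :=
    Groth.Agent.H52.CZ.map_ofPt_chart f.hom (m ≫ pr) b₀ h e w
  constructor
  · intro hw
    have h1 : HasAt (fun U u => ringKrullDim ↥(U.presheaf.stalk u) = 0) X.obj
        (Points.ofPt (m ≫ pr) w) := ⟨W, m ≫ pr, w, hae, rfl, hw⟩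
    have h2 := (hpre _).1 h1
    rw [key] at h2
    exact huniq _ ((Groth.Agent.H51.s10248 Y _ 0).1 h2 T₀ b₀ (h.left w) hb₀ rfl)
  · intro hw
    have h2 : HasAt (fun U u => ringKrullDim ↥(U.presheaf.stalk u) = 0) Y.obj
        (Points.map f.hom (Points.ofPt (m ≫ pr) w)) := by
      rw [key, hw]
      exact ⟨T₀, b₀, t₀, hb₀, rfl, hdim⟩
    have h1 := (hpre _).2 h2
    exact (Groth.Agent.H51.s10248 X _ 0).1 h1 W (m ≫ pr) w hae rfl

end Groth.Agent.H53.ZMT
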