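import Groth.Agent.H53.ZMT.GenFinSp
import Groth.Agent.H52.DiagRel
import Groth.Agent.H52.Chart

/-!
# Generic finiteness for an algebraic space over an affine scheme
-/

set_option autoImplicit false
universe u
open CategoryTheory CategoryTheory.Limits AlgebraicGeometry Opposite

namespace Groth.Agent.H53.ZMT

open AlgSp Groth.Agent.H50 Groth.Agent.H51

variable {S : Scheme.{u}}

/-- Finiteness of a restriction passes to smaller opens. -/
theorem isFinite_morphismRestrict_of_le {X Y : Scheme.{u}} (f : X ⟶ Y) {U V : Y.Opens}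
    (hVU : V ≤ U) (h : IsFinite (f ∣_ U)) : IsFinite (f ∣_ V) := by
  have sqU := (isPullback_morphismRestrict f U).flip
  have sqV := (isPullback_morphismRestrict f V).flip
  have hle : f ⁻¹ᵁ V ≤ f ⁻¹ᵁ U := fun x hx => hVU hx
  have e1 : X.homOfLE hle ≫ (f ⁻¹ᵁ U).ι = (f ⁻¹ᵁ V).ι := Scheme.homOfLE_ι _ _
  have e2 : Y.homOfLE hVU ≫ U.ι = V.ι := Scheme.homOfLE_ι _ _
  have comm : X.homOfLE hle ≫ f ∣_ U = f ∣_ V ≫ Y.homOfLE hVU := by
    rw [← cancel_mono U.ι, Category.assoc, Category.assoc, e2, morphismRestrict_ι,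
      morphismRestrict_ι, ← Category.assoc, e1]
  have sq : IsPullback (X.homOfLE hle) (f ∣_ V) (f ∣_ U) (Y.homOfLE hVU) := by
    refine IsPullback.of_right ?_ comm sqU
    rw [e1, e2]
    exact sqV
  exact MorphismProperty.of_isPullback (P := @IsFinite) sq h


/-- The relation of an affine etale atlas of a space quasi-separated and locally of finite type
over an affine scheme: it is quasi-compact, and separated and locally of finite type over the
base. -/
theorem relation_props {T₀ W : Over S} (hT₀ : IsAffine T₀.left) (hW : IsAffine W.left)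
    {X₀ : Sp S} (f₀ : X₀ ⟶ (yon S).obj T₀)
    (hqs : RepWith @QuasiCompact (pullback.diagonal f₀)) (m : (yon S).obj W ⟶ X₀)
    (hme : RepWith @Etale m) (h : W ⟶ T₀) (hh : (yon S).map h = m ≫ f₀)
    [LocallyOfFiniteType h.left] {R : Over S} (t s : R ⟶ W)
    (sqR : IsPullback ((yon S).map t) ((yon S).map s) m m) :
    CompactSpace ↥R.left ∧ IsSeparated (s ≫ h).left ∧ LocallyOfFiniteType (s ≫ h).left ∧
      Etale s.left ∧ t ≫ h = s ≫ h := by
  have hset : Etale s.left := hme.property m _ s sqR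
  have hw : t ≫ h = s ≫ h := by
    apply (yon S).map_injective
    rw [Functor.map_comp, Functor.map_comp, hh, ← Category.assoc, sqR.w, Category.assoc]
  have hδqc : QuasiCompact (pullback.lift t s hw).left :=
    Groth.Agent.H52.prop_pullback_lift_of_repWith_diagonal f₀ hqs sqR h h hh hh hw
  have hhaff : IsAffineHom h.left := inferInstance
  have hWWaff : IsAffine (pullback h h).left := by
    have : IsAffineHom (pullback.fst h h).left :=
      Groth.Agent.H52.prop_pullback_fst_left @IsAffineHom h h hhaff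
    exact isAffine_of_isAffineHom (pullback.fst h h).left
  have hRc : CompactSpace ↥R.left :=
    QuasiCompact.compactSpace_of_compactSpace (pullback.lift t s hw).left
  have hδmono : Mono (pullback.lift t s hw) := by
    refine ⟨fun {Z} g₁ g₂ hg => ?_⟩
    apply (yon S).map_injective
    apply sqR.hom_ext
    · rw [← Functor.map_comp, ← Functor.map_comp]
      congr 1
      have := congrArg (· ≫ pullback.fst h h) hg
      simpa only [Category.assoc, pullback.lift_fst] using this
    · rw [← Functor.map_comp, ← Functor.map_comp]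
      congr 1
      have := congrArg (· ≫ pullback.snd h h) hg
      simpa only [Category.assoc, pullback.lift_snd] using this
  have hδmono' : Mono (pullback.lift t s hw).left := inferInstance
  have hδsep : IsSeparated (pullback.lift t s hw).left := inferInstance
  have hT₀' : IsAffine T₀.left := hT₀
  have hrsep : IsSeparated (s ≫ h).left := by
    have e : (s ≫ h).left = (pullback.lift t s hw).left ≫ (pullback.snd h h ≫ h).left := by
      rw [← Over.comp_left, ← Category.assoc, pullback.lift_snd]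
    rw [e]
    infer_instance
  have hrlft : LocallyOfFiniteType (s ≫ h).left := by
    rw [Over.comp_left]
    infer_instance
  exact ⟨hRc, hrsep, hrlft, hset, hw⟩


/-- If an affine etale atlas and its relation are finite over an affine open `N` of the base, then
the restriction of the space to `N` is finite over `N`. -/
theorem isFiniteMor_restrict {T₀ W : Over S} {X₀ : Sp S} (f₀ : X₀ ⟶ (yon S).obj T₀)
    (m : (yon S).obj W ⟶ X₀) (hme : RepWith @Etale m) (hms : RepWith @Surjective m)
    (h : W ⟶ T₀) (hh : (yon S).map h = m ≫ f₀) {R : Over S} (t s : R ⟶ W)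
    (sqR : IsPullback ((yon S).map t) ((yon S).map s) m m) (N : T₀.left.Opens)
    (hN : IsAffineOpen N) (hfin₁ : IsFinite (h.left ∣_ N))
    (hfin₂ : IsFinite ((s ≫ h).left ∣_ N)) {X₁ : Sp S} (q₁ : X₁ ⟶ X₀)
    (f₁ : X₁ ⟶ (yon S).obj (overOpen T₀ N))
    (sqX : IsPullback q₁ f₁ f₀ ((yon S).map (overOpenι T₀ N))) : IsFiniteMor f₁ := by
  have hNaff : IsAffine N.toScheme := hN
  set O : W.left.Opens := h.left ⁻¹ᵁ N with hO
  let T₁ : Over S := overOpen T₀ N
  let j₁ : T₁ ⟶ T₀ := overOpenι T₀ N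
  let W₁ : Over S := overOpen W O
  let ι : W₁ ⟶ W := overOpenι W O
  let h₁ : W₁ ⟶ T₁ := Over.homMk (h.left ∣_ N) (by
    change h.left ∣_ N ≫ N.ι ≫ T₀.hom = O.ι ≫ W.hom
    rw [← Category.assoc, morphismRestrict_ι, Category.assoc, Over.w h])
  have hh₁ : ι ≫ h = h₁ ≫ j₁ := by
    ext1
    exact (morphismRestrict_ι h.left N).symm
  have sqW₀ : IsPullback ι h₁ h j₁ := by
    refine IsPullback.of_map (Over.forget S) hh₁ ?_
    exact (isPullback_morphismRestrict h.left N).flip
  have sqWy : IsPullback ((yon S).map ι) ((yon S).map h₁) ((yon S).map h) ((yon S).map j₁) :=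
    sqW₀.map (yon S)
  have hcomm : ((yon S).map ι ≫ m) ≫ f₀ = (yon S).map h₁ ≫ (yon S).map j₁ := by
    rw [Category.assoc, ← hh, ← Functor.map_comp, ← Functor.map_comp, hh₁]
  let m₁ : (yon S).obj W₁ ⟶ X₁ := sqX.lift ((yon S).map ι ≫ m) ((yon S).map h₁) hcomm
  have hm₁q : m₁ ≫ q₁ = (yon S).map ι ≫ m := sqX.lift_fst _ _ _
  have hm₁f : m₁ ≫ f₁ = (yon S).map h₁ := sqX.lift_snd _ _ _
  have sqM : IsPullback m₁ ((yon S).map ι) q₁ m := by
    refine IsPullback.of_right ?_ hm₁q sqX.flip
    rw [hm₁f, ← hh]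
    exact sqWy.flip
  have hm₁e : RepWith @Etale m₁ := MorphismProperty.of_isPullback sqM.flip hme
  have hm₁s : RepWith @Surjective m₁ := MorphismProperty.of_isPullback sqM.flip hms
  -- the relation of `m₁`
  have hrep₁ := hm₁e.rep
  have sq₁ := hrep₁.isPullback m₁
  obtain ⟨t₁, ht₁⟩ := (yon S).map_surjective (hrep₁.fst m₁)
  set s₁ := hrep₁.snd m₁ with hs₁
  rw [← ht₁] at sq₁
  have sqP : IsPullback ((yon S).map t₁ ≫ (yon S).map ι) ((yon S).map s₁) m (m₁ ≫ q₁) :=
    sq₁.paste_horiz sqM.flip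
  rw [hm₁q] at sqP
  obtain ⟨k, hk⟩ := (yon S).map_surjective
    (sqR.lift ((yon S).map t₁ ≫ (yon S).map ι) ((yon S).map s₁ ≫ (yon S).map ι) (by
      rw [Category.assoc, Category.assoc]; exact sqP.w))
  have hk1 : (yon S).map k ≫ (yon S).map t = (yon S).map t₁ ≫ (yon S).map ι := by
    rw [hk]; exact sqR.lift_fst _ _ _
  have hk2 : (yon S).map k ≫ (yon S).map s = (yon S).map s₁ ≫ (yon S).map ι := by
    rw [hk]; exact sqR.lift_snd _ _ _
  have sqK : IsPullback ((yon S).map k) ((yon S).map s₁) ((yon S).map s) ((yon S).map ι) := by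
    refine IsPullback.of_right ?_ hk2 sqR
    rw [hk1]
    exact sqP
  have hk2' : k ≫ s = s₁ ≫ ι := by
    apply (yon S).map_injective
    rw [Functor.map_comp, Functor.map_comp, hk2]
  have sqK₀ : IsPullback k s₁ s ι := IsPullback.of_map (yon S) hk2' sqK
  have sqKl : IsPullback k.left s₁.left s.left O.ι := sqK₀.map (Over.forget S)
  -- finiteness of the restriction of `s`
  have hsep : IsSeparated (h.left ∣_ N) := inferInstance
  have hsfin : IsFinite (s.left ∣_ O) := by
    have hfin₂' : IsFinite ((s.left ≫ h.left) ∣_ N) := hfin₂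
    rw [morphismRestrict_comp] at hfin₂'
    have hfin₂'' : IsFinite (s.left ∣_ O ≫ h.left ∣_ N) := hfin₂'
    exact IsFinite.of_comp (s.left ∣_ O) (h.left ∣_ N)
  have sqS := (isPullback_morphismRestrict s.left O).flip
  have hs₁fin : IsFinite s₁.left := by
    have sq' : IsPullback (sqS.lift k.left s₁.left sqKl.w) s₁.left (s.left ∣_ O) (𝟙 _) := by
      refine IsPullback.of_right ?_ (by rw [sqS.lift_snd, Category.comp_id]) sqS
      rw [sqS.lift_fst, Category.id_comp]
      exact sqKl
    exact MorphismProperty.of_isPullback (P := @IsFinite) sq' hsfin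
  have := Groth.Agent.H1.isFinite_descendsAlong_fpqc.{u}
  have hm₁fin : RepWith @IsFinite m₁ :=
    Groth.Agent.H51.repWith_of_atlas @IsFinite hrep₁ m₁ hm₁e hm₁s hs₁fin
  have hW₁aff : IsAffine W₁.left := by
    have : IsAffineHom (h.left ∣_ N) := inferInstance
    exact isAffine_of_isAffineHom (h.left ∣_ N)
  exact isFiniteMor_of_finite_chart hW₁aff f₁ m₁ hm₁e hm₁s hm₁fin h₁ hfin₁ hm₁f


/-- **Generic finiteness over an affine base.**  An algebraic space quasi-compact, quasi-separated
and locally of finite type over an affine scheme `T₀`, quasi-finite at all points over a point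
`t₀` whose local ring is zero-dimensional, is finite over a principal open neighbourhood of
`t₀`. -/
theorem exists_basicOpen_isFiniteMor {T₀ : Over S} (hT₀ : IsAffine T₀.left) {X₀ : Sp S}
    (f₀ : X₀ ⟶ (yon S).obj T₀) (hqs : RepWith @QuasiCompact (pullback.diagonal f₀))
    (hlft : LocP @LocallyOfFiniteType f₀) (hqc : IsQuasiCompactSp X₀) (t₀ : ↥T₀.left)
    (hdim : ringKrullDim (T₀.left.presheaf.stalk t₀) = 0)
    (hqf : ∀ x : Points X₀, Points.map f₀ x = Points.ofScheme T₀ t₀ → HasAtMor QfAt f₀ x) :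
    ∃ r₀ : Γ(T₀.left, ⊤), t₀ ∈ T₀.left.basicOpen r₀ ∧
      ∀ (X₁ : Sp S) (q₁ : X₁ ⟶ X₀)
        (f₁ : X₁ ⟶ (yon S).obj (overOpen T₀ (T₀.left.basicOpen r₀))),
        IsPullback q₁ f₁ f₀ ((yon S).map (overOpenι T₀ (T₀.left.basicOpen r₀))) →
          IsFiniteMor f₁ := by
  have hT₀' : IsAffine T₀.left := hT₀
  obtain ⟨W, m, hWaff, hme, hms⟩ := exists_affine_atlas hqc
  have hWaff' : IsAffine W.left := hWaff
  obtain ⟨h, hh⟩ := (yon S).map_surjective (m ≫ f₀)
  have hhlft : LocallyOfFiniteType h.left :=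
    hlft m (𝟙 _) h hme (repWith_id _ T₀) (by rw [hh, Category.comp_id])
  have hhqc : QuasiCompact h.left := inferInstance
  have hqfW : ∀ w, h.left w = t₀ → h.left.QuasiFiniteAt w := fun w hw =>
    quasiFiniteAt_of_hasAtMor f₀ m hme h hh w (hqf _ (by
      rw [Points.map_ofPt, ← hh, Groth.Agent.H52.ofPt_yon_map, hw]))
  have hfibW : (h.left ⁻¹' {t₀}).Finite :=
    finite_preimage_singleton_of_quasiFiniteAt h.left t₀ hqfW
  obtain ⟨r₁, ht₁, hfin₁⟩ := exists_basicOpen_isFinite_of_finite_fibre h.left t₀ hdim hfibW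
  -- the relation
  have hrep := hme.rep
  have sqR := hrep.isPullback m
  obtain ⟨t, ht⟩ := (yon S).map_surjective (hrep.fst m)
  set s := hrep.snd m with hs
  rw [← ht] at sqR
  obtain ⟨hRc, hrsep, hrlft, hset, hw⟩ := relation_props hT₀ hWaff f₀ hqs m hme h hh t s sqR
  have hsqc : QuasiCompact s.left := inferInstance
  have hslqf : LocallyQuasiFinite s.left := Groth.Agent.H53.locallyQuasiFinite_of_etale s.left
  have hfibR : ((s ≫ h).left ⁻¹' {t₀}).Finite := by
    have : (s ≫ h).left ⁻¹' {t₀} = s.left ⁻¹' (h.left ⁻¹' {t₀}) := by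
      ext x
      simp
    rw [this]
    exact hfibW.preimage' (fun x _ => s.left.finite_preimage_singleton x)
  obtain ⟨r₂, ht₂, hfin₂⟩ := exists_basicOpen_isFinite_of_compact (s ≫ h).left t₀ hdim hfibR
  refine ⟨r₁ * r₂, ?_, ?_⟩
  · rw [Scheme.basicOpen_mul]
    exact ⟨ht₁, ht₂⟩
  intro X₁ q₁ f₁ sqX
  have hN₁ : T₀.left.basicOpen (r₁ * r₂) ≤ T₀.left.basicOpen r₁ := by
    rw [Scheme.basicOpen_mul]; exact inf_le_left
  have hN₂ : T₀.left.basicOpen (r₁ * r₂) ≤ T₀.left.basicOpen r₂ := by
    rw [Scheme.basicOpen_mul]; exact inf_le_right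
  exact isFiniteMor_restrict f₀ m hme hms h hh t s sqR (T₀.left.basicOpen (r₁ * r₂))
    ((isAffineOpen_top T₀.left).basicOpen _)
    (isFinite_morphismRestrict_of_le h.left hN₁ hfin₁)
    (isFinite_morphismRestrict_of_le (s ≫ h).left hN₂ hfin₂) q₁ f₁ sqX

end Groth.Agent.H53.ZMT
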