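import Groth.Agent.H53.ZMT.GenFinSch
import Groth.Agent.H53.LQF

/-!
# Generic finiteness for separated morphisms of finite type from a quasi-compact scheme
-/

set_option autoImplicit false
universe u
open CategoryTheory CategoryTheory.Limits AlgebraicGeometry Opposite

namespace Groth.Agent.H53.ZMT

/-- A separated morphism locally of finite type from a quasi-compact scheme to an affine scheme,
with finite fibre over a point `v` whose local ring is zero-dimensional, is finite over a principal
open neighbourhood of `v`. -/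
theorem exists_basicOpen_isFinite_of_compact {R V : Scheme.{u}} [IsAffine V] [CompactSpace R]
    (r : R ⟶ V) [LocallyOfFiniteType r] [IsSeparated r] (v : V)
    (hv : ringKrullDim (V.presheaf.stalk v) = 0) (hfib : (r ⁻¹' {v}).Finite) :
    ∃ f : Γ(V, ⊤), v ∈ V.basicOpen f ∧ IsFinite (r ∣_ V.basicOpen f) := by
  let 𝒰 : R.OpenCover := R.affineCover.finiteSubcover
  let c : (∐ 𝒰.X) ⟶ R := Sigma.desc 𝒰.f
  have hCaff : IsAffine (∐ 𝒰.X) := inferInstance
  have hcs : Surjective c := inferInstance
  have hce : Etale c := IsZariskiLocalAtSource.sigmaDesc (fun i => inferInstance)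
  have hqs : QuasiSeparatedSpace R := quasiSeparatedSpace_of_quasiSeparated r
  have hcqc : QuasiCompact c := inferInstance
  have hclqf : LocallyQuasiFinite c := Groth.Agent.H53.locallyQuasiFinite_of_etale c
  have hfib' : ((c ≫ r) ⁻¹' {v}).Finite := by
    have : (c ≫ r) ⁻¹' {v} = c ⁻¹' (r ⁻¹' {v}) := by
      ext x
      simp
    rw [this]
    exact hfib.preimage' (fun x _ => c.finite_preimage_singleton x)
  have hclft : LocallyOfFiniteType (c ≫ r) := inferInstance
  obtain ⟨f, hvf, hfin⟩ := exists_basicOpen_isFinite_of_finite_fibre (c ≫ r) v hv hfib'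
  refine ⟨f, hvf, ?_⟩
  rw [morphismRestrict_comp] at hfin
  have h1 : Etale (c ∣_ (r ⁻¹ᵁ V.basicOpen f)) := inferInstance
  have h2 : Surjective (c ∣_ (r ⁻¹ᵁ V.basicOpen f)) :=
    IsZariskiLocalAtTarget.restrict hcs _
  have hfin' : IsFinite (c ∣_ (r ⁻¹ᵁ V.basicOpen f) ≫ r ∣_ V.basicOpen f) := hfin
  have huc' : UniversallyClosed (c ∣_ (r ⁻¹ᵁ V.basicOpen f) ≫ r ∣_ V.basicOpen f) := inferInstance
  have hlqf' : LocallyQuasiFinite (c ∣_ (r ⁻¹ᵁ V.basicOpen f) ≫ r ∣_ V.basicOpen f) :=
    inferInstance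
  have hsep : IsSeparated (r ∣_ V.basicOpen f) := inferInstance
  have huc : UniversallyClosed (r ∣_ V.basicOpen f) :=
    UniversallyClosed.of_comp_surjective (c ∣_ (r ⁻¹ᵁ V.basicOpen f)) (r ∣_ V.basicOpen f)
  have hlft : LocallyOfFiniteType (r ∣_ V.basicOpen f) := inferInstance
  have hlqf : LocallyQuasiFinite (r ∣_ V.basicOpen f) :=
    Groth.Agent.H53.locallyQuasiFinite_of_comp_etale_surjective
      (c ∣_ (r ⁻¹ᵁ V.basicOpen f)) (r ∣_ V.basicOpen f) hlqf'
  have hrqc : QuasiCompact r := inferInstance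
  have hqc : QuasiCompact (r ∣_ V.basicOpen f) := inferInstance
  have hprop : IsProper (r ∣_ V.basicOpen f) := {}
  exact IsFinite.of_isProper_of_locallyQuasiFinite _

end Groth.Agent.H53.ZMT
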