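import Groth.Agent.H53.ZMT.GrpdOfEqv
import Groth.Agent.H53.Epi
import Groth.Agent.H51.SpQuotChart2
import Groth.Agent.S7488
import Groth.Agent.H40.FG.QuotFinal2

/-!
# A sheaf with a finite etale surjective chart from an affine scheme is an affine scheme
-/

set_option autoImplicit false
universe u
open CategoryTheory CategoryTheory.Limits AlgebraicGeometry Opposite

namespace Groth.Agent.H53.ZMT

open AlgSp Groth.Agent.H50 Groth.Agent.H51

variable {S : Scheme.{u}}

/-- Two epimorphisms of sheaves with the same kernel pair have isomorphic targets. -/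
theorem exists_iso_of_kernelPair_eq {A R F₁ F₂ : Sp S} {a b : R ⟶ A} (π₁ : A ⟶ F₁)
    (π₂ : A ⟶ F₂) [Epi π₁] [Epi π₂] (h₁ : IsPullback a b π₁ π₁) (h₂ : IsPullback a b π₂ π₂) :
    ∃ d : F₁ ≅ F₂, π₁ ≫ d.hom = π₂ := by
  have r₁ : IsRegularEpi π₁ := IsRegularEpiCategory.regularEpiOfEpi _
  have r₂ : IsRegularEpi π₂ := IsRegularEpiCategory.regularEpiOfEpi _
  obtain ⟨d, hd⟩ := IsRegularEpi.exists_of_isKernelPair π₁ h₁ π₂ h₂.w
  obtain ⟨d', hd'⟩ := IsRegularEpi.exists_of_isKernelPair π₂ h₂ π₁ h₁.w
  refine ⟨⟨d, d', ?_, ?_⟩, hd⟩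
  · rw [← cancel_epi π₁, ← Category.assoc, hd, hd', Category.comp_id]
  · rw [← cancel_epi π₂, ← Category.assoc, hd', hd, Category.comp_id]

theorem etale_le_flat : (@Etale : MorphismProperty Scheme.{u}) ≤ @Flat := fun _ _ g hg => by
  have : Etale g := hg
  exact (inferInstance : Flat g)

theorem etale_le_lfp : (@Etale : MorphismProperty Scheme.{u}) ≤ @LocallyOfFinitePresentation :=
  fun _ _ g hg => by
    have : Etale g := hg
    exact (inferInstance : LocallyOfFinitePresentation g)

/-- A sheaf with a finite etale surjective chart from an affine scheme is an affine scheme, and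
the chart is finite over it. -/
theorem exists_affine_quot {F : Sp S} {V : Over S} (hV : IsAffine V.left)
    (q : (yon S).obj V ⟶ F) (hqe : RepWith @Etale q) (hqf : RepWith @IsFinite q)
    (hqs : RepWith @Surjective q) :
    ∃ (M : Over S) (e : (yon S).obj M ≅ F) (π : V ⟶ M), IsAffine M.left ∧
      (yon S).map π ≫ e.hom = q ∧ IsFinite π.left := by
  have hrep : Representable q := hqe.rep
  have sq := hrep.isPullback q
  obtain ⟨t, ht⟩ := (yon S).map_surjective (hrep.fst q)
  set s := hrep.snd q with hs
  rw [← ht] at sq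
  have heq : IsEtaleEqvRel s t := isEtaleEqvRel_of_isPullback s t q hqe sq
  have hsfin : IsFinite s.left := hqf.property q _ s sq
  have htfin : IsFinite t.left := hqf.property q _ t sq.flip
  have hset : Etale s.left := heq.etale_left
  have htet : Etale t.left := heq.etale_right
  have hRaff : IsAffine (hrep.pullback q).left := isAffine_of_isAffineHom s.left
  let G := grpdOfEqv s t heq.toIsEqvRel
  have i1 : IsAffine G.U := hV
  have i2 : IsAffine G.R := hRaff
  have i3 : IsFinite G.s := hsfin
  have i4 : Flat G.s := (inferInstance : Flat s.left)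
  have i5 : LocallyOfFinitePresentation G.s := (inferInstance : LocallyOfFinitePresentation s.left)
  have i6 : IsFinite G.t := htfin
  have i7 : Flat G.t := (inferInstance : Flat t.left)
  have i8 : LocallyOfFinitePresentation G.t := (inferInstance : LocallyOfFinitePresentation t.left)
  have i9 : Mono G.j := mono_j_grpdOfEqv heq.toIsEqvRel
  obtain ⟨m, ⟨hm, -⟩, -⟩ := Groth.Agent.S7488.result S G
  let M : Over S := Over.mk m
  let π : V ⟶ M := Over.homMk G.toQuot hm
  have hpb : IsPullback t.left s.left π.left π.left := Groth.Agent.H40.FG.isPullback_ts G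
  have hpbO : IsPullback t s π π := by
    refine IsPullback.of_map (Over.forget S) ?_ hpb
    ext1
    exact hpb.w
  have sqM : IsPullback ((yon S).map t) ((yon S).map s) ((yon S).map π) ((yon S).map π) :=
    hpbO.map (yon S)
  have hπfl : Flat π.left := Groth.Agent.H40.FG.toQuot_flat G
  have hπlfp : LocallyOfFinitePresentation π.left :=
    Groth.Agent.H40.FG.toQuot_locallyOfFinitePresentation G
  have hπsurj : Surjective π.left := ⟨Groth.Agent.H40.FG.toQuot_surjective G⟩
  have hπfin : IsFinite π.left := Groth.Agent.H40.FG.toQuot_isFinite G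
  have hπls : Sheaf.IsLocallySurjective ((yon S).map π) := isLocallySurjective_yon_map_of_fppf π
  have hπepi : Epi ((yon S).map π) := (Sheaf.isLocallySurjective_iff_epi _).1 hπls
  have hqls : Sheaf.IsLocallySurjective q :=
    Groth.Agent.H53.isLocallySurjective_of_repWith q
      (Groth.Agent.H51.repWith_mono etale_le_flat hqe)
      (Groth.Agent.H51.repWith_mono etale_le_lfp hqe) hqs
  have hqepi : Epi q := (Sheaf.isLocallySurjective_iff_epi _).1 hqls
  obtain ⟨d, hd⟩ := exists_iso_of_kernelPair_eq ((yon S).map π) q sqM sq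
  exact ⟨M, d, π, (inferInstance : IsAffine (Spec (CommRingCat.of G.invariants))), hd, hπfin⟩

end Groth.Agent.H53.ZMT
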