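import Groth.Agent.H53.ZMT.LqfSep
import Groth.Agent.H50.ProperImage
import Groth.Agent.H50.EtSrcInst
import Groth.Agent.H49.AlgSpClosed
import Groth.Agent.H51.SpAffine
import Groth.Agent.H53.LQF

/-!
# Splitting off a finite open and closed part after etale localization
-/

set_option autoImplicit false
universe u
open CategoryTheory CategoryTheory.Limits AlgebraicGeometry Opposite

namespace Groth.Agent.H53.ZMT

open AlgSp Groth.Agent.H50 Groth.Agent.H51

variable {S : Scheme.{u}}

theorem isFinite_le_universallyClosed :
    (@IsFinite : MorphismProperty Scheme.{u}) ≤ @UniversallyClosed := fun _ _ k hk => by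
  have : IsFinite k := hk
  exact (inferInstance : UniversallyClosed k)

/-- The open subspace on an open and closed set of points is a closed immersion. -/
theorem repWith_isClosedImmersion_openSubι {F : Sp S} (W : Set (Points F)) (hW : IsOpen W)
    (hWc : IsClosed W) : RepWith @IsClosedImmersion (openSubι F W) := by
  refine MorphismProperty.relative.of_exists ?_
  intro T g
  obtain ⟨V, fst, hV, sq⟩ := exists_isPullback_openSubι W hW g
  refine ⟨overOpen T V, fst, overOpenι T V, sq, ?_⟩
  change IsClosedImmersion V.ι
  refine IsClosedImmersion.of_isPreimmersion _ ?_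
  rw [Scheme.Opens.range_ι, hV]
  exact hWc.preimage (Points.continuous_ofPt g)

/-- A finite scheme over `T'` with an etale map to a separated space `P` over `T'` has open and
closed image, finite over `T'`. -/
theorem exists_clopen_finite {T' V₁ : Over S} (_hT' : IsAffine T'.left) (hV₁ : IsAffine V₁.left)
    {P : Sp S} (hP : IsAlgSpace P) (p1 : P ⟶ (yon S).obj T') (hsep : IsSeparatedMor p1)
    (m : (yon S).obj V₁ ⟶ P) (hmet : RepWith @Etale m) (b : V₁ ⟶ T') (hb : IsFinite b.left)
    (hm1 : m ≫ p1 = (yon S).map b) :
    IsOpen (Set.range (Points.ofPt m)) ∧ IsClosed (Set.range (Points.ofPt m)) ∧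
      IsFiniteMor (openSubι P (Set.range (Points.ofPt m)) ≫ p1) := by
  have hmfin : RepWith @IsFinite m :=
    repWith_of_comp_of_isSeparatedMor @IsFinite isClosedImmersion_le_isFinite m p1 hsep (by
      rw [hm1]
      exact (repWith_yon_map_iff _ _).2 hb)
  have hWm : IsOpen (Set.range (Points.ofPt m)) := (isOpenMap_ofPt_of_etale m hmet).isOpen_range
  have hWmc : IsClosed (Set.range (Points.ofPt m)) := by
    rw [← range_map_eq_range_ofPt]
    exact (isClosedMap_of_isUnivClosedMor hP m (Groth.Agent.H49.isUnivClosedMor_of_repWith
      (Groth.Agent.H49.repWith_of_le isFinite_le_universallyClosed hmfin))).isClosed_range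
  refine ⟨hWm, hWmc, ?_⟩
  set Wm : Set (Points P) := Set.range (Points.ofPt m) with hWmdef
  have hjV : RepWith @IsOpenImmersion (openSubι P Wm) := repWith_isOpenImmersion_openSubι Wm hWm
  obtain ⟨m', hm', hm'e, hm's, -⟩ := isPresentation_of_open_image m hmet (openSubι P Wm) hjV
    (range_map_openSubι Wm)
  have hm'fin : RepWith @IsFinite m' := repWith_of_comp_mono m' (openSubι P Wm) (by
    rw [hm']; exact hmfin)
  obtain ⟨M, eM, π, hMaff, hπ, hπfin⟩ := exists_affine_quot hV₁ m' hm'e hm'fin hm's
  obtain ⟨c, hc⟩ := (yon S).map_surjective (eM.hom ≫ openSubι P Wm ≫ p1)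
  have hπc : π ≫ c = b := by
    apply (yon S).map_injective
    rw [Functor.map_comp, hc, ← Category.assoc, hπ, ← Category.assoc, hm', hm1]
  have hπ' : (yon S).map π = m' ≫ eM.inv := by
    rw [← hπ, Category.assoc, Iso.hom_inv_id, Category.comp_id]
  have hπe : Etale π.left := (repWith_yon_map_iff _ _).1 (by
    rw [hπ']
    exact ((RepWith @Etale).cancel_right_of_respectsIso m' eM.inv).2 hm'e)
  have hπs : Surjective π.left := (repWith_yon_map_iff _ _).1 (by
    rw [hπ']
    exact ((RepWith @Surjective).cancel_right_of_respectsIso m' eM.inv).2 hm's)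
  have hcomp : π.left ≫ c.left = b.left := by rw [← Over.comp_left, hπc]
  have hcfin : IsFinite (π.left ≫ c.left) := by rw [hcomp]; exact hb
  have hcsep : IsSeparated c.left := inferInstance
  have hcuc : UniversallyClosed c.left := UniversallyClosed.of_comp_surjective π.left c.left
  have hclft : LocallyOfFiniteType c.left :=
    locallyOfFiniteType_of_comp_etale_surjective π.left c.left inferInstance
  have hclqf : LocallyQuasiFinite c.left :=
    locallyQuasiFinite_of_comp_etale_surjective π.left c.left inferInstance
  have hcqc : QuasiCompact c.left := inferInstance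
  have hcprop : IsProper c.left := {}
  have hcf : IsFinite c.left := IsFinite.of_isProper_of_locallyQuasiFinite c.left
  have hrep : RepWith @IsFinite (openSubι P Wm ≫ p1) := by
    rw [← (RepWith @IsFinite).cancel_left_of_respectsIso eM.hom, ← hc]
    exact (repWith_yon_map_iff _ _).2 hcf
  exact (affine_test_iff_repWith @IsFinite (fun g hg => by
    have : IsFinite g := hg
    infer_instance) _).2 hrep

end Groth.Agent.H53.ZMT
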