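import Groth.Agent.H53.ZMT.GenFinDense4
import Groth.Agent.H49.AlgSpQC

/-!
# Generic finiteness over a chart with a unique generic point: the separated case
-/

set_option autoImplicit false
universe u
open CategoryTheory CategoryTheory.Limits AlgebraicGeometry Opposite

namespace Groth.Agent.H53.ZMT

open AlgSp Groth.Agent.H50 Groth.Agent.H51

variable {S : Scheme.{u}}

/-- An affine etale chart of an algebraic space whose image contains a given finite set of
points. -/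
theorem exists_affine_chart_covering {X₀ : Sp S} (hX₀ : IsAlgSpace X₀) (Φ : Set (Points X₀))
    (hΦ : Φ.Finite) :
    ∃ (W : Over S) (m : (yon S).obj W ⟶ X₀), IsAffine W.left ∧ RepWith @Etale m ∧
      ∀ p ∈ Φ, ∃ w : ↥W.left, Points.ofPt m w = p := by
  obtain ⟨U₀, p₀, hp₀e, hp₀s⟩ := hX₀.atlas
  have hsurj := surjective_ofPt_of_surjective p₀ hp₀s
  choose up hup using hsurj
  have hex : ∀ z : ↥U₀.left, ∃ U : U₀.left.Opens, IsAffineOpen U ∧ z ∈ U := by
    intro z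
    obtain ⟨_, ⟨(U : U₀.left.Opens), hU, rfl⟩, hzU, -⟩ :=
      U₀.left.isBasis_affineOpens.exists_subset_of_mem_open (Set.mem_univ z) isOpen_univ
    exact ⟨U, hU, hzU⟩
  choose Ua hUaff hzU using hex
  let O : U₀.left.Opens := ⟨⋃ p ∈ Φ, (Ua (up p) : Set ↥U₀.left),
    isOpen_biUnion fun p _ => (Ua (up p)).2⟩
  have hOc : IsCompact (O : Set ↥U₀.left) :=
    hΦ.isCompact_biUnion fun p _ => (hUaff (up p)).isCompact
  let W₀ : Over S := overOpen U₀ O
  have hW₀c : CompactSpace ↥W₀.left := isCompact_iff_compactSpace.1 hOc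
  obtain ⟨W, m', hWaff, hm'e, hm's⟩ :=
    exists_affine_atlas (Groth.Agent.H49.isQuasiCompactSp_yon W₀)
  set a₀ : (yon S).obj W₀ ⟶ X₀ := (yon S).map (overOpenι U₀ O) ≫ p₀ with ha₀
  have ha₀e : RepWith @Etale a₀ := repWith_etale_restrict p₀ hp₀e O
  refine ⟨W, m' ≫ a₀, hWaff, (RepWith @Etale).comp_mem _ _ hm'e ha₀e, ?_⟩
  intro p hp
  have hmem : up p ∈ O := Set.mem_biUnion hp (hzU (up p))
  obtain ⟨w, hw⟩ := surjective_ofPt_of_surjective m' hm's (Points.ofScheme W₀ ⟨up p, hmem⟩)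
  refine ⟨w, ?_⟩
  rw [← Points.map_ofPt, hw, ← Points.ofPt_eq_map_ofScheme,
    ofPt_restrict p₀ O ⟨up p, hmem⟩]
  exact hup p


/-- **Generic finiteness over a chart with a unique generic point, separated case.** -/
theorem exists_basicOpen_isFiniteMor_of_sep {X Y : AlgSp.Space S} (f : X ⟶ Y)
    (hf : LocP @LocallyOfFiniteType f.hom) (hY : IsDecent Y.obj)
    (hX0 : {x : Points X.obj |
      HasAt (fun U u => ringKrullDim ↥(U.presheaf.stalk u) = 0) X.obj x}.Finite)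
    (hpre : ∀ x : Points X.obj,
      HasAt (fun U u => ringKrullDim ↥(U.presheaf.stalk u) = 0) X.obj x ↔
        HasAt (fun U u => ringKrullDim ↥(U.presheaf.stalk u) = 0) Y.obj (Points.map f.hom x))
    (hsep : IsSeparatedMor f.hom) {T₀ : Over S} (hT₀ : IsAffine T₀.left)
    (b₀ : (yon S).obj T₀ ⟶ Y.obj) (hb₀ : RepWith @Etale b₀) (t₀ : ↥T₀.left)
    (hdim : ringKrullDim (T₀.left.presheaf.stalk t₀) = 0)
    (huniq : ∀ t : ↥T₀.left, ringKrullDim (T₀.left.presheaf.stalk t) = 0 → t = t₀) :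
    ∃ r₀ : Γ(T₀.left, ⊤), t₀ ∈ T₀.left.basicOpen r₀ ∧
      ∀ (X₁ : Sp S) (q : X₁ ⟶ X.obj)
        (f₁ : X₁ ⟶ (yon S).obj (overOpen T₀ (T₀.left.basicOpen r₀))),
        IsPullback q f₁ f.hom ((yon S).map (overOpenι T₀ (T₀.left.basicOpen r₀)) ≫ b₀) →
          IsFiniteMor f₁ := by
  have hT₀' : IsAffine T₀.left := hT₀
  have hy : HasAt (fun U u => ringKrullDim ↥(U.presheaf.stalk u) = 0) Y.obj
      (Points.ofPt b₀ t₀) := ⟨T₀, b₀, t₀, hb₀, rfl, hdim⟩
  let X₀ : Sp S := pullback f.hom b₀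
  let pr : X₀ ⟶ X.obj := pullback.fst f.hom b₀
  let f₀ : X₀ ⟶ (yon S).obj T₀ := pullback.snd f.hom b₀
  have sq₀ : IsPullback pr f₀ f.hom b₀ := IsPullback.of_hasPullback f.hom b₀
  have hT₀sp : IsAlgSpace ((yon S).obj T₀) := IsAlgSpace.yon_obj T₀
  have hX₀ : IsAlgSpace X₀ :=
    Groth.Agent.H49.isAlgSpace_of_isPullback sq₀ Y.property.diag X.property hT₀sp
  have hlft₀ : LocP @LocallyOfFiniteType f₀ :=
    goodClass_lft.locP_of_isPullback X.property Y.property hT₀sp f.hom b₀ pr f₀ sq₀ hf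
  have hsep₀ : IsSeparatedMor f₀ := isSeparatedMor_of_isPullback sq₀ hsep
  -- finitely many points over `t₀`
  have hcodim : ∀ x : Points X.obj, Points.map f.hom x = Points.ofPt b₀ t₀ →
      HasAt (fun U u => ringKrullDim ↥(U.presheaf.stalk u) = 0) X.obj x := fun x hx =>
    (hpre x).2 (by rw [hx]; exact hy)
  have hxsfin : {x : Points X.obj | Points.map f.hom x = Points.ofPt b₀ t₀}.Finite :=
    hX0.subset hcodim
  have hxs : ∀ x ∈ hxsfin.toFinset, Points.map f.hom x = Points.ofPt b₀ t₀ := fun x hx =>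
    hxsfin.mem_toFinset.1 hx
  have hqfx : ∀ x ∈ hxsfin.toFinset, HasAtMor QfAt f.hom x := fun x hx =>
    ((Groth.Agent.H52.CZ.s10399 f hf _ hy).1.1 hcodim) x (hxs x hx)
  have hΦfin := finite_points_over_chart f (Points.ofPt b₀ t₀) hxsfin.toFinset hxs hf hqfx
    (Or.inr hY) b₀ hb₀ t₀ rfl hX₀ pr f₀ sq₀
  have hΦ : {p : Points X₀ | Points.map f₀ p = Points.ofScheme T₀ t₀}.Finite := by
    refine hΦfin.subset (fun p hp => ⟨hxsfin.mem_toFinset.2 ?_, hp⟩)
    change Points.map f.hom (Points.map pr p) = Points.ofPt b₀ t₀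
    rw [← Points.map_comp, sq₀.w, Points.map_comp, show Points.map f₀ p = _ from hp,
      ← Points.ofPt_eq_map_ofScheme]
  obtain ⟨W, m, hWaff, hme, hcover⟩ := exists_affine_chart_covering hX₀ _ hΦ
  have hWaff' : IsAffine W.left := hWaff
  obtain ⟨h, hh⟩ := (yon S).map_surjective (m ≫ f₀)
  have hhlft : LocallyOfFiniteType h.left :=
    hlft₀ m (𝟙 _) h hme (repWith_id _ T₀) (by rw [hh, Category.comp_id])
  have hfacts := chart_codimZero_iff f hpre b₀ hb₀ t₀ hdim huniq pr f₀ sq₀ m hme h hh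
  have hhqc : QuasiCompact h.left := inferInstance
  have hqfW : ∀ w, h.left w = t₀ → h.left.QuasiFiniteAt w := fun w hw =>
    Groth.Agent.H52.CZ.quasiFiniteAt_of_fibre_generic h.left t₀ (fun w hw => (hfacts w).2 hw) w hw
  have hfibW : (h.left ⁻¹' {t₀}).Finite :=
    finite_preimage_singleton_of_quasiFiniteAt h.left t₀ hqfW
  obtain ⟨r₁, ht₁, hfin₁⟩ := exists_basicOpen_isFinite_of_finite_fibre h.left t₀ hdim hfibW
  refine ⟨r₁, ht₁, ?_⟩
  intro X₁ q f₁ sq
  obtain ⟨q₁, -, sqQ⟩ := exists_lift_isPullback sq₀ sq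
  obtain ⟨h₁, m₁, hh₁l, hm₁q, hm₁f, sqM⟩ :=
    exists_restrict_chart f₀ m h hh (T₀.left.basicOpen r₁) q₁ f₁ sqQ
  have hm₁e : RepWith @Etale m₁ := MorphismProperty.of_isPullback sqM.flip hme
  have hT₁sp : IsAlgSpace ((yon S).obj (overOpen T₀ (T₀.left.basicOpen r₁))) :=
    IsAlgSpace.yon_obj _
  have hX₁ : IsAlgSpace X₁ :=
    Groth.Agent.H49.isAlgSpace_of_isPullback sqQ hT₀sp.diag hX₀ hT₁sp
  have hsep₁ : IsSeparatedMor f₁ := isSeparatedMor_of_isPullback sqQ hsep₀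
  have hh₁fin : IsFinite h₁.left := by rw [hh₁l]; exact hfin₁
  have hNaff : IsAffine (T₀.left.basicOpen r₁).toScheme := (isAffineOpen_top T₀.left).basicOpen _
  have hT₁aff : IsAffine (overOpen T₀ (T₀.left.basicOpen r₁)).left := hNaff
  have hW₁aff : IsAffine (overOpen W (h.left ⁻¹ᵁ T₀.left.basicOpen r₁)).left := by
    have : IsAffineHom (h.left ∣_ T₀.left.basicOpen r₁) := inferInstance
    exact isAffine_of_isAffineHom (h.left ∣_ T₀.left.basicOpen r₁)
  obtain ⟨hop, hcl, hfinm⟩ := exists_clopen_finite hT₁aff hW₁aff hX₁ f₁ hsep₁ m₁ hm₁e h₁ hh₁fin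
    hm₁f
  have hq₁oi : RepWith @IsOpenImmersion q₁ := MorphismProperty.of_isPullback sqQ.flip
    (repWith_isOpenImmersion_overOpenι T₀ (T₀.left.basicOpen r₁))
  have hq₁e : RepWith @Etale q₁ := MorphismProperty.of_isPullback sqQ.flip
    (repWith_etale_overOpenι T₀ (T₀.left.basicOpen r₁))
  have hq₁mono : Mono q₁ :=
    Groth.Agent.H49.mono_of_repWith_mono Groth.Agent.H51.isOpenImmersion_le_mono q₁ hq₁oi
  -- the chart is surjective
  have huniv : Set.range (Points.ofPt m₁) = Set.univ := by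
    by_contra hne
    obtain ⟨c, hc⟩ := (Set.ne_univ_iff_exists_notMem _).1 hne
    obtain ⟨c', hc'C, hc'0⟩ := (dense_codim_zero hX₁).inter_open_nonempty _ hcl.isOpen_compl ⟨c, hc⟩
    obtain ⟨Z, a', z, ha', hz, hdimz⟩ := hc'0
    obtain ⟨k, hk⟩ := (yon S).map_surjective ((a' ≫ q₁) ≫ f₀)
    have hkt : k.left z = t₀ := (chart_codimZero_iff f hpre b₀ hb₀ t₀ hdim huniq pr f₀ sq₀
      (a' ≫ q₁) ((RepWith @Etale).comp_mem _ _ ha' hq₁e) k hk z).1 hdimz
    have hover : Points.map f₀ (Points.ofPt (a' ≫ q₁) z) = Points.ofScheme T₀ t₀ := by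
      rw [Points.map_ofPt, ← hk, Groth.Agent.H52.ofPt_yon_map, hkt]
    obtain ⟨w, hw⟩ := hcover _ hover
    have hwt : h.left w = t₀ := by
      have h1 : Points.map f₀ (Points.ofPt m w) = Points.ofScheme T₀ (h.left w) := by
        rw [Points.map_ofPt, ← hh, Groth.Agent.H52.ofPt_yon_map]
      rw [hw, hover] at h1
      exact ((Points.schemeEquiv T₀).injective h1).symm
    have hwN : w ∈ h.left ⁻¹ᵁ T₀.left.basicOpen r₁ := by
      change h.left w ∈ T₀.left.basicOpen r₁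
      rw [hwt]; exact ht₁
    have e1 : Points.map q₁ (Points.ofPt m₁ ⟨w, hwN⟩) = Points.map q₁ c' := by
      rw [Points.map_ofPt, hm₁q, ofPt_restrict m _ ⟨w, hwN⟩, ← hz, Points.map_ofPt]
      exact hw
    exact hc'C ⟨⟨w, hwN⟩, injective_map_of_mono q₁ e1⟩
  rw [huniv] at hfinm
  have hιiso : IsIso (openSubι X₁ Set.univ) :=
    isIso_of_isOpenImmersion_of_surjective _ (repWith_isOpenImmersion_openSubι _ isOpen_univ) (by
      rw [← Set.range_eq_univ, range_map_openSubι])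
  have hQ : ∀ {A B : Scheme.{u}} (g : A ⟶ B), @IsFinite A B g → IsAffineHom g := fun g hg => by
    have : IsFinite g := hg
    infer_instance
  have h1 := (affine_test_iff_repWith @IsFinite hQ _).1 hfinm
  exact (affine_test_iff_repWith @IsFinite hQ _).2
    (((RepWith @IsFinite).cancel_left_of_respectsIso (openSubι X₁ Set.univ) f₁).1 h1)

end Groth.Agent.H53.ZMT
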