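import Groth.Agent.H53.ZMT.GenFinAlg
import Mathlib.AlgebraicGeometry.Morphisms.Finite
import Mathlib.AlgebraicGeometry.Morphisms.FiniteType
import Mathlib.AlgebraicGeometry.Morphisms.AffineAnd

/-!
# Generic finiteness for morphisms of affine schemes
-/

set_option autoImplicit false
universe u
open CategoryTheory CategoryTheory.Limits AlgebraicGeometry Opposite

namespace Groth.Agent.H53.ZMT

set_option backward.isDefEq.respectTransparency false in
/-- A morphism of affine schemes, locally of finite type, with finite fibre over a point `v` whose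
local ring is zero-dimensional, is finite over a principal open neighbourhood of `v`. -/
theorem exists_basicOpen_isFinite_of_finite_fibre {U V : Scheme.{u}} [IsAffine U] [IsAffine V]
    (h : U ⟶ V) [LocallyOfFiniteType h] (v : V)
    (hv : ringKrullDim (V.presheaf.stalk v) = 0) (hfib : (h ⁻¹' {v}).Finite) :
    ∃ r : Γ(V, ⊤), v ∈ V.basicOpen r ∧ IsFinite (h ∣_ V.basicOpen r) := by
  have hV := isAffineOpen_top V
  have hU := isAffineOpen_top U
  have hft : h.appTop.hom.FiniteType :=
    (HasRingHomProperty.iff_of_isAffine (P := @LocallyOfFiniteType)).1 inferInstance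
  algebraize [h.appTop.hom]
  let p : PrimeSpectrum Γ(V, ⊤) := hV.primeIdealOf ⟨v, trivial⟩
  let _ : Algebra Γ(V, ⊤) (V.presheaf.stalk v) :=
    TopCat.Presheaf.algebra_section_stalk V.presheaf (U := ⊤) ⟨v, trivial⟩
  have hloc : IsLocalization.AtPrime (V.presheaf.stalk v) p.asIdeal :=
    hV.isLocalization_stalk ⟨v, trivial⟩
  have hdim : Ring.KrullDimLE 0 (Localization.AtPrime p.asIdeal) := by
    rw [Ring.krullDimLE_iff]
    have e := IsLocalization.algEquiv p.asIdeal.primeCompl (V.presheaf.stalk v)
      (Localization.AtPrime p.asIdeal)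
    rw [← ringKrullDim_eq_of_ringEquiv e.toRingEquiv, hv]
    rfl
  have hfib' : (PrimeSpectrum.comap (algebraMap Γ(V, ⊤) Γ(U, ⊤)) ⁻¹' {⟨p.asIdeal, inferInstance⟩}).Finite := by
    refine Set.Finite.of_finite_image (f := fun q => hU.fromSpec q) (hfib.subset ?_)
      (hU.fromSpec.isOpenEmbedding.injective.injOn)
    rintro _ ⟨q, hq, rfl⟩
    have hq' : Spec.map h.appTop q = p := hq
    have e1 : Spec.map (h.appLE ⊤ ⊤ le_top) ≫ hV.fromSpec = hU.fromSpec ≫ h :=
      IsAffineOpen.SpecMap_appLE_fromSpec h hV hU le_top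
    change h (hU.fromSpec q) = v
    rw [← Scheme.Hom.comp_apply, ← e1, Scheme.Hom.comp_apply]
    have e0 : h.appLE ⊤ ⊤ le_top = h.appTop := by
      simp [Scheme.Hom.appTop, Scheme.Hom.app_eq_appLE]
    have : Spec.map (h.appLE ⊤ ⊤ le_top) q = p := by rw [e0]; exact hq'
    rw [this]
    exact hV.fromSpec_primeIdealOf ⟨v, trivial⟩
  obtain ⟨f, hfp, hf⟩ := exists_away_finite_of_finite_fibre p.asIdeal hfib'
  refine ⟨f, ?_, ?_⟩
  · rw [Scheme.mem_basicOpen_top]
    exact (IsLocalization.AtPrime.isUnit_to_map_iff (V.presheaf.stalk v) p.asIdeal f).2 hfp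
  · have : IsAffine (V.basicOpen f).toScheme := hV.basicOpen f
    rw [HasAffineProperty.iff_of_isAffine (P := @IsFinite)]
    refine ⟨?_, ?_⟩
    · simp only [Scheme.preimage_basicOpen]
      exact (isAffineOpen_top U).basicOpen _
    · rw [morphismRestrict_appTop, CommRingCat.hom_comp,
        RingHom.finite_respectsIso.cancel_right_isIso]
      change RingHom.Finite (Scheme.Hom.app h ((V.basicOpen f).ι ''ᵁ ⊤)).hom
      rw [Scheme.Opens.ι_image_top]
      rw [(isAffineOpen_top V).app_basicOpen_eq_away_map h (isAffineOpen_top U),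
        CommRingCat.hom_comp, RingHom.finite_respectsIso.cancel_right_isIso]
      exact hf _ _

end Groth.Agent.H53.ZMT
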