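import Groth.Agent.H53.ZMT.DegSch
import Mathlib.AlgebraicGeometry.Morphisms.Separated
import Mathlib.AlgebraicGeometry.Morphisms.ClosedImmersion
import Mathlib.AlgebraicGeometry.Morphisms.Affine

/-!
# The complement of the diagonal of an etale morphism of affine schemes
-/

set_option autoImplicit false
universe u
open CategoryTheory CategoryTheory.Limits AlgebraicGeometry

namespace Groth.Agent.H53.ZMT

/-- For an etale morphism of affine schemes, the complement of the diagonal in `X ×_Y X` is an
affine open subscheme. -/
theorem exists_compl_diagonal {X Y : Scheme.{u}} [IsAffine X] [IsAffine Y] (e : X ⟶ Y)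
    [Etale e] :
    ∃ U : (pullback e e).Opens, IsAffine (U : Scheme.{u}) ∧
      (U : Set ↥(pullback e e)) = (Set.range (pullback.diagonal e))ᶜ := by
  have hsep : IsSeparated e := inferInstance
  have hcl : IsClosedImmersion (pullback.diagonal e) := inferInstance
  have hop : IsOpenImmersion (pullback.diagonal e) := inferInstance
  have h1 : IsClosed (Set.range (pullback.diagonal e)) :=
    (pullback.diagonal e).isClosedEmbedding.isClosed_range
  have h2 : IsOpen (Set.range (pullback.diagonal e)) :=
    (pullback.diagonal e).isOpenEmbedding.isOpen_range
  let U : (pullback e e).Opens := ⟨(Set.range (pullback.diagonal e))ᶜ, h1.isOpen_compl⟩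
  have hUι : IsClosedImmersion U.ι := by
    refine IsClosedImmersion.of_isPreimmersion _ ?_
    rw [Scheme.Opens.range_ι]
    exact h2.isClosed_compl
  have hP : IsAffine (pullback e e) := inferInstance
  have : IsAffine (U : Scheme.{u}) := isAffine_of_isAffineHom U.ι
  exact ⟨U, this, rfl⟩

end Groth.Agent.H53.ZMT
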