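import Groth.Agent.H53.ZMT.QfLocus
import Groth.Agent.H52.FibreProdFinite
import Groth.Agent.H52.FibreFinite
import Groth.Agent.H52.QFAtSp
import Groth.Agent.H51.SpBasic

/-!
# Preparations for the etale localization of finitely many quasi-finite points
-/

set_option autoImplicit false
universe u
open CategoryTheory CategoryTheory.Limits AlgebraicGeometry Opposite

namespace Groth.Agent.H53.ZMT

open AlgSp Groth.Agent.H50 Groth.Agent.H51

variable {S : Scheme.{u}}

/-- An affine etale chart through a point at which the morphism to a scheme is quasi-finite. -/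
theorem exists_affine_chart_qf {T₀ : Over S} {X₀ : Sp S} (hX₀ : IsAlgSpace X₀)
    (f₀ : X₀ ⟶ (yon S).obj T₀) (hlft : LocP @LocallyOfFiniteType f₀) (p : Points X₀)
    (hp : HasAtMor QfAt f₀ p) :
    ∃ (W : Over S) (a : (yon S).obj W ⟶ X₀) (w : ↥W.left) (k : W ⟶ T₀), IsAffine W.left ∧
      RepWith @Etale a ∧ Points.ofPt a w = p ∧ (yon S).map k = a ≫ f₀ ∧
      LocallyOfFiniteType k.left ∧ k.left.QuasiFiniteAt w := by
  obtain ⟨U, α, hαe, hαs⟩ := hX₀.atlas
  obtain ⟨u, rfl⟩ := surjective_ofPt_of_surjective α hαs p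
  obtain ⟨_, ⟨(U₁ : U.left.Opens), hU₁, rfl⟩, huU₁, -⟩ :=
    U.left.isBasis_affineOpens.exists_subset_of_mem_open (Set.mem_univ u) isOpen_univ
  have hU₁aff : IsAffine (overOpen U U₁).left := hU₁
  set a : (yon S).obj (overOpen U U₁) ⟶ X₀ := (yon S).map (overOpenι U U₁) ≫ α with ha
  have hae : RepWith @Etale a := repWith_etale_restrict α hαe U₁
  let w : ↥(overOpen U U₁).left := ⟨u, huU₁⟩
  have hw : Points.ofPt a w = Points.ofPt α u := ofPt_restrict α U₁ w
  obtain ⟨k, hk⟩ := (yon S).map_surjective (a ≫ f₀)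
  have e₁ : a ≫ f₀ = (yon S).map k ≫ 𝟙 _ := by rw [hk, Category.comp_id]
  have hklft : LocallyOfFiniteType k.left := hlft a (𝟙 _) k hae (repWith_id _ T₀) e₁
  obtain ⟨U', V', a', b', h', u', ha', hb', comm', hx', Wn, hWn, h1, h2⟩ := hp
  have hq' : h'.left.QuasiFiniteAt u' :=
    Groth.Agent.H52.quasiFiniteAt_of_qfNear h'.left u' ⟨Wn, hWn, h1, h2⟩
  refine ⟨overOpen U U₁, a, w, k, hU₁aff, hae, hw, hk, hklft, ?_⟩
  exact Groth.Agent.H52.quasiFiniteAt_chart_indep f₀ a (𝟙 _) k hae (repWith_id _ T₀) e₁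
    a' b' h' ha' hb' comm' w u' (hw.trans hx'.symm) hq'

/-- Finiteness of the set of points of the base change to an etale chart of the target lying over a
point of the chart and over finitely many points of the source at which the morphism is
quasi-finite. -/
theorem finite_points_over_chart {X Y : AlgSp.Space S} (f : X ⟶ Y) (y : Points Y.obj)
    (xs : Finset (Points X.obj)) (hxs : ∀ x ∈ xs, Points.map f.hom x = y)
    (hf1 : LocP @LocallyOfFiniteType f.hom) (hf3 : ∀ x ∈ xs, HasAtMor QfAt f.hom x)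
    (hf4 : IsQuasiCompactMor f.hom ∨ IsDecent Y.obj)
    {T₀ : Over S} (b₀ : (yon S).obj T₀ ⟶ Y.obj) (hb₀ : RepWith @Etale b₀) (t₀ : ↥T₀.left)
    (ht₀ : Points.ofPt b₀ t₀ = y) {X₀ : Sp S} (hX₀ : IsAlgSpace X₀) (pr : X₀ ⟶ X.obj)
    (f₀ : X₀ ⟶ (yon S).obj T₀) (sq₀ : IsPullback pr f₀ f.hom b₀) :
    {p : Points X₀ | Points.map pr p ∈ xs ∧ Points.map f₀ p = Points.ofScheme T₀ t₀}.Finite := by
  suffices h : ∀ x ∈ xs,
      {p : Points X₀ | Points.map pr p = x ∧ Points.map f₀ p = Points.ofScheme T₀ t₀}.Finite by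
    refine (Set.Finite.biUnion xs.finite_toSet h).subset ?_
    rintro p ⟨hp1, hp2⟩
    exact Set.mem_biUnion (Finset.mem_coe.2 hp1) ⟨rfl, hp2⟩
  intro x hx
  rcases hf4 with hqc | hdec
  · let Z : AlgSp.Space S := ⟨(yon S).obj T₀, IsAlgSpace.yon_obj T₀⟩
    let W : AlgSp.Space S := ⟨X₀, hX₀⟩
    let g : Z ⟶ Y := ObjectProperty.homMk b₀
    let p : W ⟶ X := ObjectProperty.homMk pr
    let q : W ⟶ Z := ObjectProperty.homMk f₀
    have hW : IsPullback p.hom q.hom f.hom g.hom := sq₀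
    have hxz : Points.map f.hom x = Points.map g.hom (Points.ofScheme T₀ t₀) := by
      rw [hxs x hx, ← ht₀]
      exact Points.ofPt_eq_map_ofScheme b₀ t₀
    exact Groth.Agent.H52.FibreProdFinite.s10417 f g p q hW x (Points.ofScheme T₀ t₀) hxz
      ⟨hf1, hqc⟩ (hf3 x hx)
  · obtain ⟨r, hr, hm, -⟩ := hdec y
    have hrep : Representable r.toHom := Y.property.representable_from_yon _
    obtain ⟨a, ha⟩ := Points.mk_surjective x
    have hmka : Points.mk (a.map f.hom) = Points.mk r := by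
      rw [← Points.map_mk, ha, hxs x hx, hr]
    obtain ⟨ca, hca⟩ := Groth.Agent.H52.exists_factor_of_mono r (a.map f.hom) hm hrep hmka
    have ha' : (yon S).map ca ≫ r.toHom = a.toHom ≫ f.hom := by
      rw [hca, FieldPt.toHom_map]
    obtain ⟨cb, hcb⟩ := Groth.Agent.H52.exists_factor_of_mono r (FieldPt.ofPt b₀ t₀) hm hrep
      (ht₀.trans hr.symm)
    have hlqf := Groth.Agent.H52.locallyQuasiFinite_of_factor b₀ hb₀ t₀ r cb hcb
    have eb : (FieldPt.ofPt b₀ t₀).toHom = (FieldPt.ofPt (𝟙 _) t₀).toHom ≫ b₀ := by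
      rw [FieldPt.toHom_ofPt, FieldPt.toHom_ofPt, Category.comp_id]
      rfl
    have key := Groth.Agent.H52.finite_points_over_of_mono sq₀ r hm a
      (FieldPt.ofPt (𝟙 _) t₀) ca cb ha' (hcb.trans eb) hlqf
    refine key.subset ?_
    rintro w ⟨hw1, hw2⟩
    exact ⟨hw1.trans ha.symm, hw2⟩

end Groth.Agent.H53.ZMT
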