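import Groth.Agent.H53.ZMT.GenFinSch2
import Groth.Agent.H53.ZMT.FinSplit
import Groth.Agent.H53.ZMT.MultiPrep
import Groth.Agent.H1.Descent

/-!
# Generic finiteness for algebraic spaces: preparations
-/

set_option autoImplicit false
universe u
open CategoryTheory CategoryTheory.Limits AlgebraicGeometry Opposite

namespace Groth.Agent.H53.ZMT

open AlgSp Groth.Agent.H50 Groth.Agent.H51

variable {S : Scheme.{u}}

/-- A quasi-compact sheaf has an etale surjective chart from an affine scheme. -/
theorem exists_affine_atlas {X₀ : Sp S} (hqc : IsQuasiCompactSp X₀) :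
    ∃ (W : Over S) (m : (yon S).obj W ⟶ X₀), IsAffine W.left ∧ RepWith @Etale m ∧
      RepWith @Surjective m := by
  obtain ⟨U₀, p₀, hp₀e, hp₀s, hU₀c⟩ := hqc
  have : CompactSpace ↥U₀.left := hU₀c
  let 𝒰 : U₀.left.OpenCover := U₀.left.affineCover.finiteSubcover
  let c : (∐ 𝒰.X) ⟶ U₀.left := Sigma.desc 𝒰.f
  have hCaff : IsAffine (∐ 𝒰.X) := inferInstance
  have hcs : Surjective c := inferInstance
  have hce : Etale c := IsZariskiLocalAtSource.sigmaDesc (fun i => inferInstance)
  let W : Over S := Over.mk (c ≫ U₀.hom)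
  let cW : W ⟶ U₀ := Over.homMk c rfl
  refine ⟨W, (yon S).map cW ≫ p₀, hCaff, ?_, ?_⟩
  · exact (RepWith @Etale).comp_mem _ _ ((repWith_yon_map_iff _ _).2 hce) hp₀e
  · exact (RepWith @Surjective).comp_mem _ _ ((repWith_yon_map_iff _ _).2 hcs) hp₀s

/-- A quasi-compact morphism locally of finite type which is quasi-finite at all points of a
fibre has finite fibre. -/
theorem finite_preimage_singleton_of_quasiFiniteAt {U V : Scheme.{u}} (h : U ⟶ V)
    [LocallyOfFiniteType h] [QuasiCompact h] (v : V)
    (hq : ∀ u, h u = v → h.QuasiFiniteAt u) : (h ⁻¹' {v}).Finite := by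
  have hopen : ∀ (u : U) (hu : h u = v), IsOpen {(h.fiberHomeo v).symm ⟨u, hu⟩} := by
    intro u hu
    subst hu
    exact Scheme.Hom.quasiFiniteAt_iff_isOpen_singleton_asFiber.1 (hq u rfl)
  have hdisc : DiscreteTopology (h.fiber v) := by
    rw [discreteTopology_iff_isOpen_singleton]
    intro x
    have := hopen ((h.fiberHomeo v) x).1 ((h.fiberHomeo v) x).2
    have e : (⟨((h.fiberHomeo v) x).1, ((h.fiberHomeo v) x).2⟩ : ↥(h ⁻¹' {v})) =
        (h.fiberHomeo v) x := rfl
    rw [e, Homeomorph.symm_apply_apply] at this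
    exact this
  have hfin : Finite (h.fiber v) := finite_of_compact_of_discrete
  exact (h.fiberHomeo v).finite_iff.1 hfin

/-- Quasi-finiteness at a point can be tested on any chart diagram through the point. -/
theorem quasiFiniteAt_of_hasAtMor {T₀ W : Over S} {X₀ : Sp S} (f₀ : X₀ ⟶ (yon S).obj T₀)
    (m : (yon S).obj W ⟶ X₀) (hm : RepWith @Etale m) (h : W ⟶ T₀)
    [LocallyOfFiniteType h.left]
    (hh : (yon S).map h = m ≫ f₀) (w : ↥W.left) (hp : HasAtMor QfAt f₀ (Points.ofPt m w)) :
    h.left.QuasiFiniteAt w := by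
  obtain ⟨U', V', a', b', h', u', ha', hb', comm', hx', Wn, hWn, h1, h2⟩ := hp
  have hq' : h'.left.QuasiFiniteAt u' :=
    Groth.Agent.H52.quasiFiniteAt_of_qfNear h'.left u' ⟨Wn, hWn, h1, h2⟩
  have e₁ : m ≫ f₀ = (yon S).map h ≫ 𝟙 _ := by rw [hh, Category.comp_id]
  exact Groth.Agent.H52.quasiFiniteAt_chart_indep f₀ m (𝟙 _) h hm (repWith_id _ T₀) e₁
    a' b' h' ha' hb' comm' w u' hx'.symm hq'

/-- A sheaf over an affine scheme with a finite etale surjective chart from an affine scheme which
is finite over the base is finite over the base. -/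
theorem isFiniteMor_of_finite_chart {T₁ W₁ : Over S} (hW₁ : IsAffine W₁.left)
    {P : Sp S} (p1 : P ⟶ (yon S).obj T₁) (m : (yon S).obj W₁ ⟶ P) (hme : RepWith @Etale m)
    (hms : RepWith @Surjective m) (hmf : RepWith @IsFinite m) (b : W₁ ⟶ T₁)
    (hb : IsFinite b.left) (hm1 : m ≫ p1 = (yon S).map b) : IsFiniteMor p1 := by
  obtain ⟨M, eM, π, hMaff, hπ, hπfin⟩ := exists_affine_quot hW₁ m hme hmf hms
  obtain ⟨c, hc⟩ := (yon S).map_surjective (eM.hom ≫ p1)
  have hπc : π ≫ c = b := by
    apply (yon S).map_injective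
    rw [Functor.map_comp, hc, ← Category.assoc, hπ, hm1]
  have hπ' : (yon S).map π = m ≫ eM.inv := by
    rw [← hπ, Category.assoc, Iso.hom_inv_id, Category.comp_id]
  have hπe : Etale π.left := (repWith_yon_map_iff _ _).1 (by
    rw [hπ']
    exact ((RepWith @Etale).cancel_right_of_respectsIso m eM.inv).2 hme)
  have hπs : Surjective π.left := (repWith_yon_map_iff _ _).1 (by
    rw [hπ']
    exact ((RepWith @Surjective).cancel_right_of_respectsIso m eM.inv).2 hms)
  have hcomp : π.left ≫ c.left = b.left := by rw [← Over.comp_left, hπc]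
  have hcfin : IsFinite (π.left ≫ c.left) := by rw [hcomp]; exact hb
  have hMa : IsAffine M.left := hMaff
  have hcsep : IsSeparated c.left := inferInstance
  have hcuc : UniversallyClosed c.left := UniversallyClosed.of_comp_surjective π.left c.left
  have hclft : LocallyOfFiniteType c.left :=
    locallyOfFiniteType_of_comp_etale_surjective π.left c.left inferInstance
  have hclqf : LocallyQuasiFinite c.left :=
    locallyQuasiFinite_of_comp_etale_surjective π.left c.left inferInstance
  have hcqc : QuasiCompact c.left := inferInstance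
  have hcprop : IsProper c.left := {}
  have hcf : IsFinite c.left := IsFinite.of_isProper_of_locallyQuasiFinite c.left
  have hrep : RepWith @IsFinite p1 := by
    rw [← (RepWith @IsFinite).cancel_left_of_respectsIso eM.hom, ← hc]
    exact (repWith_yon_map_iff _ _).2 hcf
  exact (affine_test_iff_repWith @IsFinite (fun g hg => by
    have : IsFinite g := hg
    infer_instance) _).2 hrep

end Groth.Agent.H53.ZMT
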