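import Groth.Agent.H53.ZMT.GenFinDense3

/-!
# Generic finiteness over a chart with a unique generic point: the quasi-compact case
-/

set_option autoImplicit false
universe u
open CategoryTheory CategoryTheory.Limits AlgebraicGeometry Opposite

namespace Groth.Agent.H53.ZMT

open AlgSp Groth.Agent.H50 Groth.Agent.H51

variable {S : Scheme.{u}}

/-- A pullback along a composite factors through the pullback along the second map. -/
theorem exists_lift_isPullback {C : Type*} [Category C] {X Y X₀ T₀ T₁ X₁ : C} {f : X ⟶ Y}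
    {b₀ : T₀ ⟶ Y} {pr : X₀ ⟶ X} {f₀ : X₀ ⟶ T₀} (sq₀ : IsPullback pr f₀ f b₀) {j : T₁ ⟶ T₀}
    {q : X₁ ⟶ X} {f₁ : X₁ ⟶ T₁} (sq : IsPullback q f₁ f (j ≫ b₀)) :
    ∃ q₁ : X₁ ⟶ X₀, q₁ ≫ pr = q ∧ IsPullback q₁ f₁ f₀ j := by
  have hcomm : q ≫ f = (f₁ ≫ j) ≫ b₀ := by rw [Category.assoc]; exact sq.w
  refine ⟨sq₀.lift q (f₁ ≫ j) hcomm, sq₀.lift_fst _ _ _, ?_⟩
  refine IsPullback.of_right ?_ (sq₀.lift_snd _ _ _) sq₀
  rw [sq₀.lift_fst]
  exact sq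

/-- The restriction of a chart diagram to an open of the base. -/
theorem exists_restrict_chart {T₀ W : Over S} {X₀ : Sp S} (f₀ : X₀ ⟶ (yon S).obj T₀)
    (m : (yon S).obj W ⟶ X₀) (h : W ⟶ T₀) (hh : (yon S).map h = m ≫ f₀)
    (N : T₀.left.Opens) {X₁ : Sp S} (q₁ : X₁ ⟶ X₀) (f₁ : X₁ ⟶ (yon S).obj (overOpen T₀ N))
    (sqX : IsPullback q₁ f₁ f₀ ((yon S).map (overOpenι T₀ N))) :
    ∃ (h₁ : overOpen W (h.left ⁻¹ᵁ N) ⟶ overOpen T₀ N)
      (m₁ : (yon S).obj (overOpen W (h.left ⁻¹ᵁ N)) ⟶ X₁), h₁.left = h.left ∣_ N ∧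
      m₁ ≫ q₁ = (yon S).map (overOpenι W (h.left ⁻¹ᵁ N)) ≫ m ∧ m₁ ≫ f₁ = (yon S).map h₁ ∧
      IsPullback m₁ ((yon S).map (overOpenι W (h.left ⁻¹ᵁ N))) q₁ m := by
  set O : W.left.Opens := h.left ⁻¹ᵁ N with hO
  let T₁ : Over S := overOpen T₀ N
  let j₁ : T₁ ⟶ T₀ := overOpenι T₀ N
  let W₁ : Over S := overOpen W O
  let ι : W₁ ⟶ W := overOpenι W O
  let h₁ : W₁ ⟶ T₁ := Over.homMk (h.left ∣_ N) (by
    change h.left ∣_ N ≫ N.ι ≫ T₀.hom = O.ι ≫ W.hom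
    rw [← Category.assoc, morphismRestrict_ι, Category.assoc, Over.w h])
  have hh₁ : ι ≫ h = h₁ ≫ j₁ := by
    ext1
    exact (morphismRestrict_ι h.left N).symm
  have sqW₀ : IsPullback ι h₁ h j₁ := by
    refine IsPullback.of_map (Over.forget S) hh₁ ?_
    exact (isPullback_morphismRestrict h.left N).flip
  have sqWy : IsPullback ((yon S).map ι) ((yon S).map h₁) ((yon S).map h) ((yon S).map j₁) :=
    sqW₀.map (yon S)
  have hcomm : ((yon S).map ι ≫ m) ≫ f₀ = (yon S).map h₁ ≫ (yon S).map j₁ := by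
    rw [Category.assoc, ← hh, ← Functor.map_comp, ← Functor.map_comp, hh₁]
  let m₁ : (yon S).obj W₁ ⟶ X₁ := sqX.lift ((yon S).map ι ≫ m) ((yon S).map h₁) hcomm
  have hm₁q : m₁ ≫ q₁ = (yon S).map ι ≫ m := sqX.lift_fst _ _ _
  have hm₁f : m₁ ≫ f₁ = (yon S).map h₁ := sqX.lift_snd _ _ _
  have sqM : IsPullback m₁ ((yon S).map ι) q₁ m := by
    refine IsPullback.of_right ?_ hm₁q sqX.flip
    rw [hm₁f, ← hh]
    exact sqWy.flip
  exact ⟨h₁, m₁, rfl, hm₁q, hm₁f, sqM⟩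

/-- **Generic finiteness over a chart with a unique generic point, quasi-compact case.** -/
theorem exists_basicOpen_isFiniteMor_of_qc {X Y : AlgSp.Space S} (f : X ⟶ Y)
    (hf : LocP @LocallyOfFiniteType f.hom)
    (hpre : ∀ x : Points X.obj,
      HasAt (fun U u => ringKrullDim ↥(U.presheaf.stalk u) = 0) X.obj x ↔
        HasAt (fun U u => ringKrullDim ↥(U.presheaf.stalk u) = 0) Y.obj (Points.map f.hom x))
    (hqc : IsQuasiCompactMor f.hom) {T₀ : Over S} (hT₀ : IsAffine T₀.left)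
    (b₀ : (yon S).obj T₀ ⟶ Y.obj) (hb₀ : RepWith @Etale b₀) (t₀ : ↥T₀.left)
    (hdim : ringKrullDim (T₀.left.presheaf.stalk t₀) = 0)
    (huniq : ∀ t : ↥T₀.left, ringKrullDim (T₀.left.presheaf.stalk t) = 0 → t = t₀) :
    ∃ r₀ : Γ(T₀.left, ⊤), t₀ ∈ T₀.left.basicOpen r₀ ∧
      ∀ (X₁ : Sp S) (q : X₁ ⟶ X.obj)
        (f₁ : X₁ ⟶ (yon S).obj (overOpen T₀ (T₀.left.basicOpen r₀))),
        IsPullback q f₁ f.hom ((yon S).map (overOpenι T₀ (T₀.left.basicOpen r₀)) ≫ b₀) →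
          IsFiniteMor f₁ := by
  have hT₀' : IsAffine T₀.left := hT₀
  let X₀ : Sp S := pullback f.hom b₀
  let pr : X₀ ⟶ X.obj := pullback.fst f.hom b₀
  let f₀ : X₀ ⟶ (yon S).obj T₀ := pullback.snd f.hom b₀
  have sq₀ : IsPullback pr f₀ f.hom b₀ := IsPullback.of_hasPullback f.hom b₀
  have hT₀sp : IsAlgSpace ((yon S).obj T₀) := IsAlgSpace.yon_obj T₀
  have hX₀ : IsAlgSpace X₀ :=
    Groth.Agent.H49.isAlgSpace_of_isPullback sq₀ Y.property.diag X.property hT₀sp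
  have hlft₀ : LocP @LocallyOfFiniteType f₀ :=
    goodClass_lft.locP_of_isPullback X.property Y.property hT₀sp f.hom b₀ pr f₀ sq₀ hf
  have hqc₀ : IsQuasiCompactSp X₀ :=
    hqc hT₀sp (Groth.Agent.H49.isQuasiCompactSp_yon T₀) b₀ pr f₀ sq₀
  obtain ⟨W, m, hWaff, hme, hms⟩ := exists_affine_atlas hqc₀
  obtain ⟨h, hh⟩ := (yon S).map_surjective (m ≫ f₀)
  have hhlft : LocallyOfFiniteType h.left :=
    hlft₀ m (𝟙 _) h hme (repWith_id _ T₀) (by rw [hh, Category.comp_id])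
  have hfacts := chart_codimZero_iff f hpre b₀ hb₀ t₀ hdim huniq pr f₀ sq₀ m hme h hh
  have hrep := hme.rep
  have sqR := hrep.isPullback m
  obtain ⟨t, ht⟩ := (yon S).map_surjective (hrep.fst m)
  set s := hrep.snd m with hs
  rw [← ht] at sqR
  obtain ⟨r₀, hr₀, hfin₁, hfin₂⟩ := exists_basicOpen_isFinite_chart_relation hT₀ hWaff f₀ m hme
    h hh t s sqR t₀ hdim (fun w hw => (hfacts w).1 hw) (fun w hw => (hfacts w).2 hw)
  refine ⟨r₀, hr₀, ?_⟩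
  intro X₁ q f₁ sq
  obtain ⟨q₁, -, sqQ⟩ := exists_lift_isPullback sq₀ sq
  exact isFiniteMor_restrict f₀ m hme hms h hh t s sqR (T₀.left.basicOpen r₀)
    ((isAffineOpen_top T₀.left).basicOpen _) hfin₁ hfin₂ q₁ f₁ sqQ

end Groth.Agent.H53.ZMT
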