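import Mathlib.AlgebraicGeometry.Morphisms.Finite
import Mathlib.AlgebraicGeometry.Limits

/-!
# A finite coproduct of finite morphisms of affine schemes is finite
-/

set_option autoImplicit false
universe u
open CategoryTheory CategoryTheory.Limits AlgebraicGeometry

namespace Groth.Agent.H53.ZMT

theorem isFinite_sigmaDesc {ι : Type u} [Finite ι] {T : Scheme.{u}} [IsAffine T]
    (Z : ι → Scheme.{u}) [∀ i, IsAffine (Z i)] (b : ∀ i, Z i ⟶ T) (hb : ∀ i, IsFinite (b i)) :
    IsFinite (Sigma.desc b) := by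
  let A : ι → CommRingCat.{u} := fun i => Γ(Z i, ⊤)
  let φ : Γ(T, ⊤) ⟶ CommRingCat.of (∀ i, A i) :=
    CommRingCat.ofHom (RingHom.pi fun i => (b i).appTop.hom)
  let e : (∐ Z) ≅ Spec (CommRingCat.of (∀ i, A i)) :=
    Sigma.mapIso (fun i => (Z i).isoSpec) ≪≫ asIso (sigmaSpec A)
  have key : Sigma.desc b = e.hom ≫ Spec.map φ ≫ T.isoSpec.inv := by
    apply Sigma.hom_ext
    intro i
    rw [Sigma.ι_desc]
    have h1 : Sigma.ι Z i ≫ (Sigma.mapIso fun i => (Z i).isoSpec).hom =
        (Z i).isoSpec.hom ≫ Sigma.ι (fun i => Spec (A i)) i := by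
      simp [Sigma.mapIso]
      rfl
    simp only [e, Iso.trans_hom, asIso_hom, Category.assoc]
    rw [reassoc_of% h1, ι_sigmaSpec_assoc, ← Spec.map_comp_assoc]
    have : φ ≫ CommRingCat.ofHom (Pi.evalRingHom (fun i => A i) i) = (b i).appTop := by
      ext x; rfl
    rw [this, ← Category.assoc, Scheme.isoSpec_hom_naturality, Category.assoc, Iso.hom_inv_id,
      Category.comp_id]
  rw [key]
  have hφ : φ.hom.Finite := by
    have hfi : ∀ i, (b i).appTop.hom.Finite := fun i => by
      have := hb i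
      exact (b i).finite_appTop
    change (RingHom.pi fun i => (b i).appTop.hom).Finite
    let alg : ∀ i, Algebra Γ(T, ⊤) (A i) := fun i => (b i).appTop.hom.toAlgebra
    have hmf : ∀ i, Module.Finite Γ(T, ⊤) (A i) := fun i => hfi i
    have : Module.Finite Γ(T, ⊤) (∀ i, A i) := Module.Finite.pi
    exact RingHom.finite_algebraMap.2 this
  have : IsFinite (Spec.map φ) := (IsFinite.SpecMap_iff φ).2 hφ
  infer_instance

end Groth.Agent.H53.ZMT
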