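import Groth.Agent.H49.AlgSpCoprod2
import Groth.Agent.H51.SpEtale
import Groth.Agent.H51.SpRep
import Groth.Agent.H53.EtSourceLocal
import Groth.Agent.H50.Charts
import Groth.Agent.H53.ZMT.SigmaFinite

/-!
# The coproduct of finitely many affine etale charts of an algebraic space
-/

set_option autoImplicit false
universe u
open CategoryTheory CategoryTheory.Limits AlgebraicGeometry Opposite

namespace Groth.Agent.H53.ZMT

open AlgSp

variable {S : Scheme.{u}}

/-- Finitely many affine etale charts of an algebraic space assemble into one affine etale chart. -/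
theorem exists_coprod_chart {ι : Type u} [Finite ι] {F : Sp S} (hF : IsAlgSpace F)
    (W : ι → Over S) (hW : ∀ i, IsAffine (W i).left) (m : ∀ i, (yon S).obj (W i) ⟶ F)
    (hm : ∀ i, RepWith @Etale (m i)) :
    ∃ (V : Over S) (inj : ∀ i, W i ⟶ V) (mm : (yon S).obj V ⟶ F), IsAffine V.left ∧
      RepWith @Etale mm ∧ (∀ i, (yon S).map (inj i) ≫ mm = m i) ∧
      (∀ v : V.left, ∃ (i : ι) (w : (W i).left), (inj i).left w = v) ∧
      ∀ {T' : Over S} (bb : V ⟶ T'), IsAffine T'.left → (∀ i, IsFinite (inj i ≫ bb).left) →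
        IsFinite bb.left := by
  let dW : Cofan W := colimit.cocone (Discrete.functor W)
  have hdW : IsColimit dW := colimit.isColimit _
  obtain ⟨hY⟩ := Groth.Agent.H49.nonempty_isColimit_yon_mapCocone hdW
  obtain ⟨e, he⟩ := Groth.Agent.H49.exists_sigma_iso hdW
  have hWi : ∀ i, IsAffine (W i).left := hW
  have hAff : IsAffine dW.pt.left := IsAffine.of_isIso e.inv
  let c₁ : Cocone (Discrete.functor W ⋙ yon S) :=
    { pt := F
      ι := Discrete.natTrans (fun i => m i.as) }
  let mm : (yon S).obj dW.pt ⟶ F := hY.desc c₁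
  have hmm : ∀ i, (yon S).map (dW.inj i) ≫ mm = m i := fun i => hY.fac c₁ ⟨i⟩
  have hinj : ∀ v : dW.pt.left, ∃ (i : ι) (w : (W i).left), (dW.inj i).left w = v :=
    Groth.Agent.H49.exists_inj_left_eq hdW
  refine ⟨dW.pt, dW.inj, mm, hAff, ?_, hmm, hinj, ?_⟩
  · -- etale: locally on the source
    have hinst := Groth.Agent.H53.isLocalAtSource_etale_etale.{u}
    have hoi : ∀ i, IsOpenImmersion (dW.inj i).left :=
      Groth.Agent.H49.isOpenImmersion_inj_left hdW
    have hcov : IsCover (LocP @Etale) (fun i => (yon S).obj (W i))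
        (fun i => (yon S).map (dW.inj i)) := by
      refine ⟨fun i => ?_, fun x => ?_⟩
      · have := hoi i
        exact Groth.Agent.H50.locP_of_repWith @Etale le_rfl _
          ((repWith_yon_map_iff _ _).2 (inferInstance : Etale (dW.inj i).left))
      · obtain ⟨v, rfl⟩ := (Points.schemeEquiv dW.pt).surjective x
        obtain ⟨i, w, hw⟩ := hinj v
        refine ⟨i, Points.schemeEquiv (W i) w, ?_⟩
        rw [← hw]
        exact Points.map_yon_map_apply (dW.inj i) w
    have hloc : LocP @Etale mm :=
      (Groth.Agent.H53.isLocalOnSource_locP_of_precoverage @Etale @Etale le_rfl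
        (fun i => (yon S).obj (W i)) (fun i => (yon S).map (dW.inj i)) (IsAlgSpace.yon_obj _)
        (fun i => IsAlgSpace.yon_obj _) hcov mm hF).2 (fun i => by
          rw [hmm]
          exact Groth.Agent.H50.locP_of_repWith @Etale le_rfl _ (hm i))
    have hc : Representable mm := hF.representable_from_yon _
    obtain ⟨B, b, hb, hbs⟩ := hF.atlas
    refine Groth.Agent.H51.repWith_of_atlas @Etale hc b hb hbs ?_
    have h1 : RepWith @Etale (hc.fst b) := Groth.Agent.H51.repWith_fst hc b hb
    exact hloc (hc.fst b) b (hc.snd b) h1 hb (hc.w b)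
  · intro T' bb hT' hfin
    have hcomp : e.hom ≫ bb.left = Sigma.desc (fun i => (dW.inj i ≫ bb).left) := by
      apply Sigma.hom_ext
      intro i
      rw [← Category.assoc, he i, Sigma.ι_desc]
      rfl
    have hbb : bb.left = e.inv ≫ Sigma.desc (fun i => (dW.inj i ≫ bb).left) := by
      rw [← hcomp, Iso.inv_hom_id_assoc]
    have := isFinite_sigmaDesc (fun i => (W i).left) (fun i => (dW.inj i ≫ bb).left) hfin
    rw [hbb]
    infer_instance

end Groth.Agent.H53.ZMT
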