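import Groth.Agent.H53.ZMT.SpLemmas
import Groth.Agent.H53.ZMT.QAffZMT
import Groth.Agent.S9946

/-!
# The descent core of Stacks 0418
-/

set_option autoImplicit false
universe u
open CategoryTheory CategoryTheory.Limits AlgebraicGeometry Opposite

namespace Groth.Agent.H53.ZMT

open AlgSp Groth.Agent.H50 Groth.Agent.H51

variable {S : Scheme.{u}}

/-- An algebraic space `U'`, separated and locally quasi-finite over an affine scheme and covered
by two compact open subschemes, is quasi-affine over it. -/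
theorem isQuasiAffineMor_of_two_opens {T' : Over S} (hT' : IsAffine T'.left) {U' : Sp S}
    (hU' : IsAlgSpace U') (π : U' ⟶ (yon S).obj T') (hsep : IsSeparatedMor π)
    (hqf : LocP (@LocallyQuasiFinite ⊓ @LocallyOfFiniteType) π) {V₁ V₂ : Over S}
    [CompactSpace ↥V₁.left] [CompactSpace ↥V₂.left]
    (j₁ : (yon S).obj V₁ ⟶ U') (j₂ : (yon S).obj V₂ ⟶ U') (h₁ : RepWith @IsOpenImmersion j₁)
    (h₂ : RepWith @IsOpenImmersion j₂)
    (hcov : ∀ x : Points U', x ∈ Set.range (Points.map j₁) ∨ x ∈ Set.range (Points.map j₂)) :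
    IsQuasiAffineMor π := by
  obtain ⟨G, ⟨eG⟩⟩ := exists_iso_yon_of_two_opens hU' j₁ j₂ h₁ h₂ hcov
  have hGc : CompactSpace ↥G.left := compactSpace_of_two_cover eG j₁ j₂ hcov
  obtain ⟨g, hg⟩ := (yon S).map_surjective (eG.hom ≫ π)
  have hgsep : IsSeparated g.left := by
    rw [← isSeparatedMor_yon_map_iff, hg]
    exact isSeparatedMor_comp _ _ (isSeparatedMor_of_mono eG.hom) hsep
  have hglqf : (@LocallyQuasiFinite ⊓ @LocallyOfFiniteType : MorphismProperty Scheme.{u}) g.left := by
    apply locP_yon_map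
    rw [hg]
    exact locP_comp_of_etale _ (MorphismProperty.of_isIso (RepWith @Etale) eG.hom) hqf
  have hg1 : LocallyQuasiFinite g.left := hglqf.1
  have hg2 : LocallyOfFiniteType g.left := hglqf.2
  have hgqc : QuasiCompact g.left :=
    (HasAffineProperty.iff_of_isAffine (P := @QuasiCompact)).2 hGc
  have hGqa : G.left.IsQuasiAffine := isQuasiAffine_of_lqf_separated g.left
  exact isQuasiAffineMor_of_iso_yon eG π hGqa hT'

end Groth.Agent.H53.ZMT
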