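import Groth.Agent.H53.ZMT.Core

/-!
# The descent core of Stacks 0418, part 2
-/

set_option autoImplicit false
universe u
open CategoryTheory CategoryTheory.Limits AlgebraicGeometry Opposite

namespace Groth.Agent.H53.ZMT

open AlgSp Groth.Agent.H50 Groth.Agent.H51

variable {S : Scheme.{u}}

theorem points_map_comp_apply {F G H : Sp S} (a : F ⟶ G) (b : G ⟶ H) (x : Points F) :
    Points.map b (Points.map a x) = Points.map (a ≫ b) x := (Points.map_comp a b x).symm

/-- `RepWith @Etale` for the projection `p2` of `X ×_T T'`. -/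
theorem repWith_etale_of_isPullback_yon_map {T T' : Over S} (e : T' ⟶ T) (he : Etale e.left)
    {X P : Sp S} {f : X ⟶ (yon S).obj T} {p1 : P ⟶ (yon S).obj T'} {p2 : P ⟶ X}
    (sq : IsPullback p2 p1 f ((yon S).map e)) : RepWith @Etale p2 :=
  (RepWith @Etale).of_isPullback sq.flip ((repWith_yon_map_iff _ _).2 he)

theorem core {T T' : Over S} (hT : IsAffine T.left) (hT' : IsAffine T'.left) (e : T' ⟶ T)
    (he : Etale e.left) {X P V' : Sp S} (hX : IsAlgSpace X) (f : X ⟶ (yon S).obj T)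
    (hsep : IsSeparatedMor f) (hqf : LocP (@LocallyQuasiFinite ⊓ @LocallyOfFiniteType) f)
    (p1 : P ⟶ (yon S).obj T') (p2 : P ⟶ X) (sq : IsPullback p2 p1 f ((yon S).map e))
    (j : V' ⟶ P) (hj : RepWith @IsOpenImmersion j) (hqa : IsQuasiAffineMor (j ≫ p1))
    {V₂ : Over S} [CompactSpace ↥V₂.left] (i₂ : (yon S).obj V₂ ⟶ P)
    (hi₂ : RepWith @IsOpenImmersion i₂)
    (hi₂W : ∀ v, Points.map p2 (Points.map i₂ v) ∈ Set.range (Points.map (j ≫ p2)))
    (hpre : ∀ z : Points P, Points.map p2 z ∈ Set.range (Points.map (j ≫ p2)) →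
      z ∈ Set.range (Points.map j) ∨ z ∈ Set.range (Points.map i₂)) :
    ∃ (W : Over S) (i : (yon S).obj W ⟶ X), RepWith @IsOpenImmersion i ∧ CompactSpace ↥W.left ∧
      Set.range (Points.map i) = Set.range (Points.map (j ≫ p2)) := by
  have hP : IsAlgSpace P :=
    Groth.Agent.H49.isAlgSpace_of_isPullback sq (IsAlgSpace.yon_obj T).diag hX
      (IsAlgSpace.yon_obj T')
  have hsep' : IsSeparatedMor p1 := isSeparatedMor_of_isPullback sq hsep
  have hqf' : LocP (@LocallyQuasiFinite ⊓ @LocallyOfFiniteType) p1 :=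
    locP_lqf_of_isPullback hX (IsAlgSpace.yon_obj T) (IsAlgSpace.yon_obj T') sq hqf
  have hp2 : RepWith @Etale p2 := repWith_etale_of_isPullback_yon_map e he sq
  -- `V'` is a quasi-affine scheme
  obtain ⟨V₀, eV, hV₀⟩ := exists_iso_yon_of_isQuasiAffineMor hT' (j ≫ p1) hqa
  have hV₀c : CompactSpace ↥V₀.left := inferInstance
  have hV' : IsAlgSpace V' := (IsAlgSpace.yon_obj V₀).of_iso eV
  have hjet : RepWith @Etale j := Groth.Agent.H51.repWith_mono isOpenImmersion_le_etale hj
  -- the image is open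
  have hEt : IsEtaleMor (j ≫ p2) := by
    intro A φ hφ
    exact (RepWith @Etale).comp_mem _ _ hφ ((RepWith @Etale).comp_mem _ _ hjet hp2)
  have hopen : IsOpen (Set.range (Points.map (j ≫ p2))) := by
    rw [← Set.image_univ]
    exact isOpenMap_map_of_isEtaleMor (j ≫ p2) hV' hEt _ isOpen_univ
  set WX : Set (Points X) := Set.range (Points.map (j ≫ p2)) with hWX
  -- the open subspace `U`
  have hιU : RepWith @IsOpenImmersion (openSubι X WX) := repWith_isOpenImmersion_openSubι WX hopen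
  have hU : IsAlgSpace (openSubSp X WX) := isAlgSpace_openSubSp hX WX hopen
  have hmU : Mono (openSubι X WX) := inferInstance
  -- its base change `U'`
  have sqU : IsPullback (pullback.fst (openSubι X WX) p2) (pullback.snd (openSubι X WX) p2)
      (openSubι X WX) p2 := IsPullback.of_hasPullback _ _
  set U' := pullback (openSubι X WX) p2 with hU'def
  set fst' : U' ⟶ openSubSp X WX := pullback.fst (openSubι X WX) p2 with hfst'
  set snd' : U' ⟶ P := pullback.snd (openSubι X WX) p2 with hsnd'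
  have hsnd'oi : RepWith @IsOpenImmersion snd' := (RepWith @IsOpenImmersion).of_isPullback sqU hιU
  have hmsnd' : Mono snd' :=
    Groth.Agent.H49.mono_of_repWith_mono Groth.Agent.H51.isOpenImmersion_le_mono snd' hsnd'oi
  have hU' : IsAlgSpace U' := Groth.Agent.H49.isAlgSpace_of_isPullback sqU hX.diag hU hP
  -- points of `U'`
  have hrange_snd' : ∀ z : Points P, z ∈ Set.range (Points.map snd') ↔ Points.map p2 z ∈ WX := by
    intro z
    constructor
    · rintro ⟨u', rfl⟩
      rw [points_map_comp_apply, ← sqU.w, ← points_map_comp_apply]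
      exact (range_map_openSubι WX).subset ⟨_, rfl⟩
    · intro hz
      obtain ⟨x', hx'⟩ := (range_map_openSubι WX).symm.subset hz
      obtain ⟨u', -, hu'⟩ := points_exists_of_isPullback sqU x' z hx'
      exact ⟨u', hu'⟩
  -- `j` and `i₂` factor through `U'`
  obtain ⟨j', hj'⟩ := (exists_factor_iff_of_isOpenImmersion' snd' hsnd'oi j).2 (by
    rintro _ ⟨v, rfl⟩
    rw [hrange_snd', points_map_comp_apply]
    exact ⟨v, rfl⟩)
  obtain ⟨i₂', hi₂'⟩ := (exists_factor_iff_of_isOpenImmersion' snd' hsnd'oi i₂).2 (by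
    rintro _ ⟨v, rfl⟩
    rw [hrange_snd']
    exact hi₂W v)
  have hj'oi : RepWith @IsOpenImmersion j' := repWith_of_comp_mono j' snd' (by rw [hj']; exact hj)
  have hi₂'oi : RepWith @IsOpenImmersion i₂' :=
    repWith_of_comp_mono i₂' snd' (by rw [hi₂']; exact hi₂)
  have hj₁oi : RepWith @IsOpenImmersion (eV.hom ≫ j') :=
    (MorphismProperty.cancel_left_of_respectsIso (RepWith @IsOpenImmersion) eV.hom j').2 hj'oi
  have hcov : ∀ x : Points U', x ∈ Set.range (Points.map (eV.hom ≫ j')) ∨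
      x ∈ Set.range (Points.map i₂') := by
    intro x
    have hz : Points.map p2 (Points.map snd' x) ∈ WX := (hrange_snd' _).1 ⟨x, rfl⟩
    rcases hpre _ hz with ⟨v, hv⟩ | ⟨v, hv⟩
    · left
      refine ⟨Points.map eV.inv v, injective_map_of_mono snd' ?_⟩
      rw [points_map_comp_apply, points_map_comp_apply, ← hv]
      congr 1
      rw [Category.assoc, Iso.inv_hom_id_assoc, hj']
    · right
      refine ⟨v, injective_map_of_mono snd' ?_⟩
      rw [points_map_comp_apply, hi₂', hv]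
  have hqaU' : IsQuasiAffineMor (snd' ≫ p1) := by
    refine isQuasiAffineMor_of_two_opens hT' hU' (snd' ≫ p1) ?_ ?_ (eV.hom ≫ j') i₂' hj₁oi hi₂'oi hcov
    · exact isSeparatedMor_comp _ _ (isSeparatedMor_of_mono snd') hsep'
    · exact locP_comp_of_etale _ (Groth.Agent.H51.repWith_mono isOpenImmersion_le_etale hsnd'oi) hqf'
  -- the open image `T₀` of `e`
  have hUO : UniversallyOpen e.left := etale_le_universallyOpen _ _ _ he
  let T₀ : T.left.Opens := ⟨Set.range e.left, e.left.isOpenMap.isOpen_range⟩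
  have hrangeT₀ : Set.range e.left ⊆ Set.range T₀.ι := by
    rw [Scheme.Opens.range_ι]; exact subset_rfl
  let e₀l : T'.left ⟶ (T₀ : Scheme.{u}) := IsOpenImmersion.lift T₀.ι e.left hrangeT₀
  have he₀l : e₀l ≫ T₀.ι = e.left := IsOpenImmersion.lift_fac _ _ _
  let e₀ : T' ⟶ overOpen T T₀ := Over.homMk e₀l (by
    change e₀l ≫ T₀.ι ≫ T.hom = T'.hom
    rw [← Category.assoc, he₀l]
    exact Over.w e)
  have he₀ι : e₀ ≫ overOpenι T T₀ = e := by
    ext1
    exact he₀l
  have he₀et : Etale e₀.left := by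
    have : Etale (e₀l ≫ T₀.ι) := by rw [he₀l]; exact he
    exact Etale.of_comp e₀l T₀.ι
  have he₀surj : Surjective e₀.left := by
    refine ⟨fun t₀ => ?_⟩
    have ht₀ : T₀.ι t₀ ∈ Set.range e.left := by
      have := (Scheme.Opens.range_ι T₀).subset ⟨t₀, rfl⟩
      exact this
    obtain ⟨t', ht'⟩ := ht₀
    refine ⟨t', ?_⟩
    apply T₀.ι.isOpenEmbedding.injective
    change (e₀l ≫ T₀.ι) t' = T₀.ι t₀
    rw [he₀l, ht']
  have hp : RepWith @Etale ((yon S).map e₀) := (repWith_yon_map_iff _ _).2 he₀et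
  have hps : RepWith @Surjective ((yon S).map e₀) := (repWith_yon_map_iff _ _).2 he₀surj
  have hι₀oi : RepWith @IsOpenImmersion ((yon S).map (overOpenι T T₀)) :=
    repWith_isOpenImmersion_overOpenι T T₀
  have hmι₀ : Mono ((yon S).map (overOpenι T T₀)) :=
    Groth.Agent.H49.mono_of_repWith_mono Groth.Agent.H51.isOpenImmersion_le_mono _ hι₀oi
  -- `U ⟶ h_T` factors through `h_{T₀}`
  obtain ⟨fU, hfU⟩ := (exists_factor_iff_of_isOpenImmersion' ((yon S).map (overOpenι T T₀)) hι₀oi
      (openSubι X WX ≫ f)).2 (by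
    rintro _ ⟨x', rfl⟩
    obtain ⟨v, hv⟩ : Points.map (openSubι X WX) x' ∈ WX :=
      (range_map_openSubι WX).subset ⟨x', rfl⟩
    refine ⟨Points.map ((j ≫ p1) ≫ (yon S).map e₀) v, ?_⟩
    rw [points_map_comp_apply, ← points_map_comp_apply (openSubι X WX) f, ← hv,
      points_map_comp_apply]
    congr 1
    rw [Category.assoc, Category.assoc, ← Functor.map_comp, he₀ι, Category.assoc, sq.w])
  have sqD : IsPullback fst' (snd' ≫ p1) fU ((yon S).map e₀) := by
    have h1 := sqU.paste_vert sq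
    rw [← hfU, ← he₀ι, Functor.map_comp] at h1
    exact Groth.Agent.H49.isPullback_of_comp_mono _ h1
  have hrep : Representable fU :=
    (Groth.Agent.S9946.result (X := ⟨openSubSp X WX, hU⟩)
      (Y := ⟨(yon S).obj (overOpen T T₀), IsAlgSpace.yon_obj _⟩)
      (ObjectProperty.homMk fU) T' ((yon S).map e₀) hp hps fst' (snd' ≫ p1) sqD hqaU').1
  have sqW := hrep.isPullback (𝟙 _)
  have hiso : IsIso (hrep.fst (𝟙 _)) := sqW.isIso_fst_of_isIso
  refine ⟨hrep.pullback (𝟙 _), hrep.fst (𝟙 _) ≫ openSubι X WX, ?_, ?_, ?_⟩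
  · exact (MorphismProperty.cancel_left_of_respectsIso (RepWith @IsOpenImmersion) _ _).2 hιU
  · obtain ⟨jU, hjU⟩ := (exists_factor_iff_of_isOpenImmersion' (openSubι X WX) hιU (j ≫ p2)).2 (by
      rw [range_map_openSubι])
    refine compactSpace_of_two_cover (asIso (hrep.fst (𝟙 _))) (eV.hom ≫ jU) (eV.hom ≫ jU) ?_
    intro x
    left
    obtain ⟨v, hv⟩ : Points.map (openSubι X WX) x ∈ WX := (range_map_openSubι WX).subset ⟨x, rfl⟩
    refine ⟨Points.map eV.inv v, injective_map_of_mono (openSubι X WX) ?_⟩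
    rw [points_map_comp_apply, points_map_comp_apply, ← hv]
    congr 1
    rw [Category.assoc, Iso.inv_hom_id_assoc, hjU]
  · have hr := range_map_openSubι WX
    ext y
    constructor
    · rintro ⟨w, rfl⟩
      exact hr.subset ⟨Points.map (hrep.fst (𝟙 _)) w, points_map_comp_apply _ _ _⟩
    · intro hy
      obtain ⟨x, rfl⟩ := hr.symm.subset hy
      refine ⟨Points.map (inv (hrep.fst (𝟙 _))) x, ?_⟩
      rw [points_map_comp_apply, IsIso.inv_hom_id_assoc]

end Groth.Agent.H53.ZMT
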