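import Mathlib.AlgebraicGeometry.Morphisms.Etale
import Mathlib.AlgebraicGeometry.Morphisms.FormallyUnramified
import Mathlib.AlgebraicGeometry.ResidueField

/-!
# Fibre degree bounds via field-valued points

`DegLE e n`: every field-valued point of the target has at most `n` lifts along `e`.
-/

set_option autoImplicit false
universe u
open CategoryTheory CategoryTheory.Limits AlgebraicGeometry

namespace Groth.Agent.H53.ZMT

/-- Every field-valued point of `Y` has at most `n` lifts along `e : X ⟶ Y`. -/
def DegLE {X Y : Scheme.{u}} (e : X ⟶ Y) (n : ℕ) : Prop :=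
  ∀ (K : Type u) [Field K] (y : Spec (.of K) ⟶ Y) (s : Finset (Spec (.of K) ⟶ X)),
    (∀ x ∈ s, x ≫ e = y) → s.card ≤ n

theorem DegLE.mono {X Y : Scheme.{u}} {e : X ⟶ Y} {n m : ℕ} (h : DegLE e n) (hnm : n ≤ m) :
    DegLE e m := fun K _ y s hs => (h K y s hs).trans hnm

/-- Degree `≤ 0` means the source is empty. -/
theorem isEmpty_of_degLE_zero {X Y : Scheme.{u}} {e : X ⟶ Y} (h : DegLE e 0) : IsEmpty ↥X := by
  refine ⟨fun x => ?_⟩
  have := h (X.residueField x) (X.fromSpecResidueField x ≫ e) {X.fromSpecResidueField x}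
    (by simp)
  simp at this

/-- The second projection from an open subscheme of `X ×_Y X` disjoint from the diagonal has
degree one less. -/
theorem degLE_pred {X Y : Scheme.{u}} (e : X ⟶ Y) (n : ℕ) (h : DegLE e (n + 1))
    (U : (pullback e e).Opens)
    (hU : Disjoint (U : Set ↥(pullback e e)) (Set.range (pullback.diagonal e))) :
    DegLE (U.ι ≫ pullback.snd e e) n := by
  classical
  intro K _ y s hs
  let F : (Spec (.of K) ⟶ ↑U) → (Spec (.of K) ⟶ X) := fun z => z ≫ U.ι ≫ pullback.fst e e
  have hinj : Set.InjOn F (s : Set (Spec (.of K) ⟶ ↑U)) := by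
    intro z hz z' hz' hzz'
    rw [← cancel_mono U.ι]
    apply pullback.hom_ext
    · simpa [F, Category.assoc] using hzz'
    · have h1 := hs z hz
      have h2 := hs z' hz'
      simp only [Category.assoc] at h1 h2 ⊢
      rw [h1, h2]
  have hne : y ∉ s.image F := by
    intro hy
    obtain ⟨z, hz, hzy⟩ := Finset.mem_image.1 hy
    have h1 := hs z hz
    have hzΔ : z ≫ U.ι = y ≫ pullback.diagonal e := by
      apply pullback.hom_ext
      · simpa [F, Category.assoc] using hzy
      · simpa [Category.assoc] using h1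
    let p : ↥(Spec (.of K)) := IsLocalRing.closedPoint K
    have hmem : (z ≫ U.ι) p ∈ (U : Set ↥(pullback e e)) := by
      rw [Scheme.Hom.comp_apply]
      exact (z p).2
    have hmem' : (z ≫ U.ι) p ∈ Set.range (pullback.diagonal e) := by
      rw [hzΔ, Scheme.Hom.comp_apply]
      exact ⟨_, rfl⟩
    exact Set.disjoint_left.1 hU hmem hmem'
  have hcard := h K (y ≫ e) (insert y (s.image F)) (by
    intro x hx
    rcases Finset.mem_insert.1 hx with rfl | hx
    · rfl
    · obtain ⟨z, hz, rfl⟩ := Finset.mem_image.1 hx
      have h1 := hs z hz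
      simp only [F, Category.assoc] at h1 ⊢
      rw [pullback.condition, ← h1]
      simp only [Category.assoc])
  rw [Finset.card_insert_of_notMem hne, Finset.card_image_of_injOn hinj] at hcard
  omega

end Groth.Agent.H53.ZMT
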