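import Groth.Agent.H53.ZMT.DiagCompl
import Groth.Prelude.Def_AlgSp

/-!
# Splitting off the diagonal of an etale morphism of affine schemes over `S`
-/

set_option autoImplicit false
universe u
open CategoryTheory CategoryTheory.Limits AlgebraicGeometry

namespace Groth.Agent.H53.ZMT

variable {S : Scheme.{u}}

/-- For an etale morphism `e : T' ⟶ T` of affine schemes over `S` of degree `≤ n + 1` there are an
affine scheme `Ts` ("the complement of the diagonal in `T' ×_T T'`") and two morphisms
`a₀ a₁ : Ts ⟶ T'` equalized by `e`, with `a₁` etale of degree `≤ n`, such that any two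
"one-point" sections of `T'` with the same image in `T` are either equal or come from `Ts`. -/
theorem exists_splitting {T T' : Over S} (hT : IsAffine T.left) (hT' : IsAffine T'.left)
    (e : T' ⟶ T) (he : Etale e.left) (n : ℕ) (hdeg : DegLE e.left (n + 1)) :
    ∃ (Ts : Over S) (a₀ a₁ : Ts ⟶ T'), IsAffine Ts.left ∧ Etale a₁.left ∧ DegLE a₁.left n ∧
      a₀ ≫ e = a₁ ≫ e ∧
      ∀ (K : Over S) [Subsingleton ↥K.left] (b b' : K ⟶ T'), b ≫ e = b' ≫ e →
        b = b' ∨ ∃ c : K ⟶ Ts, c ≫ a₀ = b ∧ c ≫ a₁ = b' := by
  obtain ⟨U, hUaff, hU⟩ := exists_compl_diagonal e.left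
  have hw : T'.hom = e.left ≫ T.hom := (Over.w e).symm
  let Ts : Over S := Over.mk (U.ι ≫ pullback.fst e.left e.left ≫ T'.hom)
  let a₀ : Ts ⟶ T' := Over.homMk (U.ι ≫ pullback.fst e.left e.left) (by simp [Ts])
  let a₁ : Ts ⟶ T' := Over.homMk (U.ι ≫ pullback.snd e.left e.left) (by
    change (U.ι ≫ pullback.snd e.left e.left) ≫ T'.hom =
      U.ι ≫ pullback.fst e.left e.left ≫ T'.hom
    rw [hw, Category.assoc, ← Category.assoc (pullback.snd e.left e.left),
      ← pullback.condition, Category.assoc])
  have hdisj : Disjoint (U : Set ↥(pullback e.left e.left))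
      (Set.range (pullback.diagonal e.left)) := by
    rw [hU]
    exact disjoint_compl_left
  refine ⟨Ts, a₀, a₁, hUaff, ?_, degLE_pred e.left n hdeg U hdisj, ?_, ?_⟩
  · change Etale (U.ι ≫ pullback.snd e.left e.left)
    infer_instance
  · ext1
    change (U.ι ≫ pullback.fst e.left e.left) ≫ e.left =
      (U.ι ≫ pullback.snd e.left e.left) ≫ e.left
    rw [Category.assoc, Category.assoc, pullback.condition]
  · intro K _ b b' hbb'
    have hbb'l : b.left ≫ e.left = b'.left ≫ e.left := by
      rw [← Over.comp_left, ← Over.comp_left, hbb']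
    let m : K.left ⟶ pullback e.left e.left := pullback.lift b.left b'.left hbb'l
    by_cases hm : ∃ k : ↥K.left, m k ∈ Set.range (pullback.diagonal e.left)
    · left
      obtain ⟨k, hk⟩ := hm
      have hop : IsOpenImmersion (pullback.diagonal e.left) := inferInstance
      have hrange : Set.range m ⊆ Set.range (pullback.diagonal e.left) := by
        rintro _ ⟨k', rfl⟩
        rwa [Subsingleton.elim k' k]
      let c := IsOpenImmersion.lift (pullback.diagonal e.left) m hrange
      have hc : c ≫ pullback.diagonal e.left = m := IsOpenImmersion.lift_fac _ _ _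
      ext1
      have hm1 : m ≫ pullback.fst e.left e.left = b.left := pullback.lift_fst _ _ _
      have hm2 : m ≫ pullback.snd e.left e.left = b'.left := pullback.lift_snd _ _ _
      have h1 : b.left = c := by
        rw [← hm1, ← hc, Category.assoc, pullback.diagonal_fst, Category.comp_id]
      have h2 : b'.left = c := by
        rw [← hm2, ← hc, Category.assoc, pullback.diagonal_snd, Category.comp_id]
      rw [h1, h2]
    · right
      have hrange : Set.range m ⊆ Set.range U.ι := by
        rintro _ ⟨k, rfl⟩
        rw [Scheme.Opens.range_ι, hU]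
        exact fun hk => hm ⟨k, hk⟩
      let c := IsOpenImmersion.lift U.ι m hrange
      have hc : c ≫ U.ι = m := IsOpenImmersion.lift_fac _ _ _
      have hm1 : m ≫ pullback.fst e.left e.left = b.left := pullback.lift_fst _ _ _
      have hm2 : m ≫ pullback.snd e.left e.left = b'.left := pullback.lift_snd _ _ _
      refine ⟨Over.homMk c ?_, ?_, ?_⟩
      · change c ≫ U.ι ≫ pullback.fst e.left e.left ≫ T'.hom = K.hom
        rw [← Category.assoc, hc, ← Category.assoc, hm1]
        exact Over.w b
      · ext1
        change c ≫ U.ι ≫ pullback.fst e.left e.left = b.left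
        rw [← Category.assoc, hc, hm1]
      · ext1
        change c ≫ U.ι ≫ pullback.snd e.left e.left = b'.left
        rw [← Category.assoc, hc, hm2]

end Groth.Agent.H53.ZMT
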