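import Groth.Agent.H53.ZMT.PtsLift
import Groth.Agent.H53.ZMT.Split

/-!
# Points of `P = X ×_T T'` with the same image in `X`
-/

set_option autoImplicit false
set_option backward.isDefEq.respectTransparency false
universe u
open CategoryTheory CategoryTheory.Limits AlgebraicGeometry Opposite

namespace Groth.Agent.H53.ZMT

open AlgSp Groth.Agent.H50

variable {S : Scheme.{u}}

theorem points_dichotomy {T T' Ts : Over S} (e : T' ⟶ T) (a₀ a₁ : Ts ⟶ T')
    (hsplit : ∀ (K : Over S) [Subsingleton ↥K.left] (b b' : K ⟶ T'), b ≫ e = b' ≫ e →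
      b = b' ∨ ∃ c : K ⟶ Ts, c ≫ a₀ = b ∧ c ≫ a₁ = b')
    {X P Ps : Sp S} {f : X ⟶ (yon S).obj T} {p1 : P ⟶ (yon S).obj T'} {p2 : P ⟶ X}
    (sq : IsPullback p2 p1 f ((yon S).map e))
    {q₁ : Ps ⟶ P} {r : Ps ⟶ (yon S).obj Ts} (sqs : IsPullback q₁ r p1 ((yon S).map a₁))
    (q₀ : Ps ⟶ P) (h02 : q₀ ≫ p2 = q₁ ≫ p2) (h01 : q₀ ≫ p1 = r ≫ (yon S).map a₀)
    (z y : Points P) (hzy : Points.map p2 z = Points.map p2 y) :
    z = y ∨ ∃ w : Points Ps, Points.map q₀ w = y ∧ Points.map q₁ w = z := by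
  obtain ⟨Ω, _, w, ζ, η, hζη, hz, hy⟩ := exists_field_lift p2 p2 z y hzy
  have hsub : Subsingleton ↥(Over.mk w).left :=
    inferInstanceAs (Subsingleton ↥(Spec (CommRingCat.of Ω)))
  obtain ⟨b', hb'⟩ := (yon S).map_surjective (ζ ≫ p1)
  obtain ⟨b, hb⟩ := (yon S).map_surjective (η ≫ p1)
  have hbe : b ≫ e = b' ≫ e := by
    apply (yon S).map_injective
    rw [Functor.map_comp, Functor.map_comp, hb, hb', Category.assoc, Category.assoc, ← sq.w,
      ← Category.assoc, ← Category.assoc, hζη]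
  rcases hsplit (Over.mk w) b b' hbe with hbb | ⟨c, hc0, hc1⟩
  · left
    have : ζ = η := by
      apply sq.hom_ext hζη
      rw [← hb, ← hb', hbb]
    rw [← hz, ← hy, this]
  · right
    have hw : ζ ≫ p1 = (yon S).map c ≫ (yon S).map a₁ := by
      rw [← Functor.map_comp, hc1, hb']
    obtain ⟨ws, hws1, hws2⟩ := sqs.exists_lift ζ ((yon S).map c) hw
    refine ⟨Points.mk (fieldPtOfHom w ws), ?_, ?_⟩
    · rw [map_mk_fieldPtOfHom, ← hy]
      congr 2
      apply sq.hom_ext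
      · rw [Category.assoc, h02, ← Category.assoc, hws1, hζη]
      · rw [Category.assoc, h01, ← Category.assoc, hws2, ← Functor.map_comp, hc0, hb]
    · rw [map_mk_fieldPtOfHom, hws1, hz]

end Groth.Agent.H53.ZMT
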