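import Groth.Agent.H52.FibreFinite
import Groth.Agent.H52.Chart
import Groth.Agent.H52.Decent

/-!
# Points of a base change along an elementary etale neighbourhood

If `e : T' ⟶ T₀` has a section `σ` over the residue field of `t₀`, then a point of a base change
`P = X₀ ×_{T₀} T'` over the image of `σ` is determined by its image in `X₀`.
-/

set_option autoImplicit false
universe u
open CategoryTheory CategoryTheory.Limits AlgebraicGeometry Opposite

namespace Groth.Agent.H53.ZMT

open AlgSp

variable {S : Scheme.{u}}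

theorem points_eq_of_elementary {T₀ T' : Over S} (e : T' ⟶ T₀) (t₀ : ↥T₀.left)
    (σ : Spec (T₀.left.residueField t₀) ⟶ T'.left)
    (hσ : σ ≫ e.left = T₀.left.fromSpecResidueField t₀)
    {X₀ P : Sp S} {f₀ : X₀ ⟶ (yon S).obj T₀} {prX₀ : P ⟶ X₀} {prU : P ⟶ (yon S).obj T'}
    (sqP : IsPullback prX₀ prU f₀ ((yon S).map e)) (q q' : Points P)
    (h1 : Points.map prX₀ q = Points.map prX₀ q')
    (h2 : Points.map prU q = Points.ofScheme T' (σ (IsLocalRing.closedPoint _)))
    (h2' : Points.map prU q' = Points.ofScheme T' (σ (IsLocalRing.closedPoint _))) : q = q' := by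
  let r : FieldPt ((yon S).obj T₀) := FieldPt.ofPt (𝟙 _) t₀
  have hr : r.toHom = (yon S).map (Groth.Agent.H52.ptHom T₀ t₀) := by
    rw [FieldPt.toHom_ofPt, Category.comp_id]; rfl
  have hm : Mono r.toHom := by
    rw [hr]
    have := Groth.Agent.H52.mono_ptHom T₀ t₀
    exact Groth.Agent.H52.mono_yon_map _
  have hrep : Representable r.toHom := (IsAlgSpace.yon_obj T₀).representable_from_yon _
  have hw : σ ≫ T'.hom = r.str := by
    change σ ≫ T'.hom = T₀.left.fromSpecResidueField t₀ ≫ T₀.hom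
    rw [← hσ, Category.assoc, Over.w e]
  let σ' : r.pt ⟶ T' := Over.homMk σ hw
  have hσ' : σ' ≫ e = Groth.Agent.H52.ptHom T₀ t₀ := Over.OverMorphism.ext hσ
  let b : FieldPt ((yon S).obj T') := Groth.Agent.H52.fieldPtOfHom r.str ((yon S).map σ')
  have hbt : b.toHom = (yon S).map σ' := Groth.Agent.H52.toHom_fieldPtOfHom _ _
  let cb : b.pt ⟶ r.pt := 𝟙 _
  have hcb : IsIso cb.left := by
    change IsIso (𝟙 r.pt : r.pt ⟶ r.pt).left
    infer_instance
  have hb : (yon S).map cb ≫ r.toHom = b.toHom ≫ (yon S).map e := by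
    rw [hbt, ← Functor.map_comp, hσ', hr]
    change (yon S).map (𝟙 _) ≫ _ = _
    rw [CategoryTheory.Functor.map_id, Category.id_comp]
    rfl
  have hmkb : Points.mk b = Points.ofScheme T' (σ (IsLocalRing.closedPoint _)) := by
    rw [← Points.ofPt_toHom b (IsLocalRing.closedPoint _), hbt, Groth.Agent.H52.ofPt_yon_map]
    rfl
  obtain ⟨a₀, ha₀⟩ := Points.mk_surjective (Points.map prX₀ q)
  have hmk : Points.mk (a₀.map f₀) = Points.mk r := by
    rw [← Points.map_mk, ha₀, ← Points.map_comp, sqP.w, Points.map_comp, h2]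
    change Points.map ((yon S).map e) (Points.ofPt (𝟙 _) _) = _
    rw [Points.map_ofPt, Category.id_comp, Groth.Agent.H52.ofPt_yon_map]
    have : e.left (σ (IsLocalRing.closedPoint _)) = t₀ := by
      rw [← Scheme.Hom.comp_apply, hσ, Scheme.fromSpecResidueField_apply]
    rw [this]
    rfl
  obtain ⟨ca, hca⟩ := Groth.Agent.H52.exists_factor_of_mono r (a₀.map f₀) hm hrep hmk
  have ha : (yon S).map ca ≫ r.toHom = a₀.toHom ≫ f₀ := by
    rw [hca, FieldPt.toHom_map]
  have key := Groth.Agent.H52.subsingleton_points_over_of_mono sqP r hm a₀ b ca cb ha hb hcb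
  exact key ⟨ha₀.symm, h2.trans hmkb.symm⟩ ⟨(h1.symm.trans ha₀.symm), h2'.trans hmkb.symm⟩

end Groth.Agent.H53.ZMT
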