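import Groth.Agent.H53.ZMT.ElemFamily
import Groth.Agent.H53.ZMT.CoprodChart
import Groth.Agent.H53.ZMT.FinSplit
import Groth.Agent.H52.Chart

/-!
# Etale localization of finitely many quasi-finite points over a scheme

For an algebraic space `X₀` over a scheme `T₀`, a point `t₀` of `T₀` and finitely many pointed affine
etale charts of `X₀`, quasi-finite over `T₀` at the marked points, all lying over `t₀`, there is an
elementary etale neighbourhood `T'` of `t₀` over which the base change of `X₀` has an open and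
closed part, finite over `T'`, whose fibre over the marked point of `T'` consists of points over the
marked points of the charts, and contains such a point for every chart.
-/

set_option autoImplicit false
universe u
open CategoryTheory CategoryTheory.Limits AlgebraicGeometry Opposite

namespace Groth.Agent.H53.ZMT

open AlgSp Groth.Agent.H50 Groth.Agent.H51

variable {S : Scheme.{u}}

theorem exists_elementary_clopen_finite {T₀ : Over S} {X₀ : Sp S}
    (f₀ : X₀ ⟶ (yon S).obj T₀) (t₀ : ↥T₀.left) {ι : Type u} [Finite ι] (W : ι → Over S)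
    (a : ∀ i, (yon S).obj (W i) ⟶ X₀) (w : ∀ i, ↥(W i).left) (k : ∀ i, W i ⟶ T₀)
    (hae : ∀ i, RepWith @Etale (a i))
    (hk : ∀ i, (yon S).map (k i) = a i ≫ f₀) (hklft : ∀ i, LocallyOfFiniteType (k i).left)
    (hkqf : ∀ i, (k i).left.QuasiFiniteAt (w i)) (hkt : ∀ i, (k i).left (w i) = t₀) :
    ∃ (T' : Over S) (e : T' ⟶ T₀) (σ : Spec (T₀.left.residueField t₀) ⟶ T'.left),
      IsAffine T'.left ∧ Etale e.left ∧ σ ≫ e.left = T₀.left.fromSpecResidueField t₀ ∧
      ∀ (P : Sp S) (_ : IsAlgSpace P) (prX₀ : P ⟶ X₀) (prU : P ⟶ (yon S).obj T'),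
        IsPullback prX₀ prU f₀ ((yon S).map e) → IsSeparatedMor prU →
        ∃ Wm : Set (Points P), IsOpen Wm ∧ IsClosed Wm ∧ IsFiniteMor (openSubι P Wm ≫ prU) ∧
          (∀ q ∈ Wm, Points.map prU q = Points.ofScheme T' (σ (IsLocalRing.closedPoint _)) →
            ∃ i, Points.map prX₀ q = Points.ofPt (a i) (w i)) ∧
          ∀ i, ∃ q ∈ Wm, Points.map prX₀ q = Points.ofPt (a i) (w i) ∧
            Points.map prU q = Points.ofScheme T' (σ (IsLocalRing.closedPoint _)) := by
  classical
  have hfinι : Fintype ι := Fintype.ofFinite ι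
  have hlft : ∀ i, LocallyOfFiniteType (k i).left := hklft
  obtain ⟨T'l, g, σ, hT'aff, hg, hσ, H⟩ := exists_elementary_etale_finite_family
    (T := T₀.left) (Finset.univ : Finset ι) (fun i => (W i).left) (fun i => (k i).left) w
    (T₀.left.fromSpecResidueField t₀) (fun i _ => ⟨fun z =>
      (Scheme.fromSpecResidueField_apply t₀ z).trans (hkt i).symm, hkqf i⟩)
  let T' : Over S := Over.mk (g ≫ T₀.hom)
  let e : T' ⟶ T₀ := Over.homMk g rfl
  have hT'a : IsAffine T'.left := hT'aff
  have hee : Etale e.left := hg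
  refine ⟨T', e, σ, hT'a, hee, hσ, ?_⟩
  intro P hP prX₀ prU sqP hsep
  choose V hVfin hVex hVuniq using fun i => H i (Finset.mem_univ i) (pullback (k i).left g)
    (pullback.fst _ _) (pullback.snd _ _) (IsPullback.of_hasPullback _ _)
  let Vo : ι → Over S := fun i => Over.mk ((V i).ι ≫ pullback.snd (k i).left g ≫ g ≫ T₀.hom)
  let b : ∀ i, Vo i ⟶ T' := fun i =>
    Over.homMk ((V i).ι ≫ pullback.snd (k i).left g) (by
      change ((V i).ι ≫ pullback.snd (k i).left g) ≫ g ≫ T₀.hom = _
      simp only [Category.assoc]; rfl)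
  let c : ∀ i, Vo i ⟶ W i := fun i =>
    Over.homMk ((V i).ι ≫ pullback.fst (k i).left g) (by
      change ((V i).ι ≫ pullback.fst (k i).left g) ≫ (W i).hom =
        (V i).ι ≫ pullback.snd (k i).left g ≫ g ≫ T₀.hom
      rw [← Over.w (k i), Category.assoc, ← Category.assoc (pullback.fst _ _),
        pullback.condition, Category.assoc])
  have hcb : ∀ i, c i ≫ k i = b i ≫ e := fun i => Over.OverMorphism.ext (by
    change ((V i).ι ≫ pullback.fst (k i).left g) ≫ (k i).left =
      ((V i).ι ≫ pullback.snd (k i).left g) ≫ g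
    rw [Category.assoc, pullback.condition, Category.assoc])
  have hbfin : ∀ i, IsFinite (b i).left := hVfin
  have hVoAff : ∀ i, IsAffine (Vo i).left := fun i => by
    have := hbfin i
    exact isAffine_of_isAffineHom (b i).left
  have hce : ∀ i, Etale (c i).left := fun i => by
    change Etale ((V i).ι ≫ pullback.fst (k i).left g)
    infer_instance
  have hcomm : ∀ i, ((yon S).map (c i) ≫ a i) ≫ f₀ = (yon S).map (b i) ≫ (yon S).map e := by
    intro i
    rw [Category.assoc, ← hk, ← Functor.map_comp, ← Functor.map_comp, hcb]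
  let m : ∀ i, (yon S).obj (Vo i) ⟶ P := fun i => sqP.lift _ _ (hcomm i)
  have hm1 : ∀ i, m i ≫ prX₀ = (yon S).map (c i) ≫ a i := fun i => sqP.lift_fst _ _ _
  have hm2 : ∀ i, m i ≫ prU = (yon S).map (b i) := fun i => sqP.lift_snd _ _ _
  have hprX₀e : RepWith @Etale prX₀ :=
    (RepWith @Etale).of_isPullback sqP.flip ((repWith_yon_map_iff _ _).2 hee)
  have hmet : ∀ i, RepWith @Etale (m i) := by
    intro i
    have h1 : IsEtaleMor (m i ≫ prX₀) := by
      rw [hm1]
      exact isEtaleMor_of_repWith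
        ((RepWith @Etale).comp_mem _ _ ((repWith_yon_map_iff _ _).2 (hce i)) (hae i))
    have h2 := Groth.Agent.H51.isEtaleMor_of_comp hP h1 (isEtaleMor_of_repWith hprX₀e) (𝟙 _)
      (repWith_id _ (Vo i))
    rwa [Category.id_comp] at h2
  obtain ⟨Vc, inj, mm, hVcAff, hmmet, hmm, hinj, hfinV⟩ :=
    exists_coprod_chart hP Vo hVoAff m hmet
  obtain ⟨bb, hbb⟩ := (yon S).map_surjective (mm ≫ prU)
  have hbbi : ∀ i, inj i ≫ bb = b i := fun i => (yon S).map_injective (by
    rw [Functor.map_comp, hbb, ← Category.assoc, hmm, hm2])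
  have hbbfin : IsFinite bb.left := hfinV bb hT'a (fun i => by rw [hbbi]; exact hbfin i)
  obtain ⟨hWm, hWmc, hfin⟩ :=
    exists_clopen_finite hT'a hVcAff hP prU hsep mm hmmet bb hbbfin hbb.symm
  have e1 : ∀ i (vi : ↥(Vo i).left), Points.ofPt mm ((inj i).left vi) = Points.ofPt (m i) vi := by
    intro i vi
    rw [← hmm i]
    exact (ofPt_map_comp (inj i) mm vi).symm
  have e2 : ∀ i (vi : ↥(Vo i).left), Points.map prX₀ (Points.ofPt (m i) vi) =
      Points.ofPt (a i) ((c i).left vi) := by
    intro i vi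
    rw [Points.map_ofPt, hm1]
    exact ofPt_map_comp (c i) (a i) vi
  have e3 : ∀ i (vi : ↥(Vo i).left), Points.map prU (Points.ofPt (m i) vi) =
      Points.ofScheme T' ((b i).left vi) := by
    intro i vi
    rw [Points.map_ofPt, hm2]
    exact Groth.Agent.H52.ofPt_yon_map (b i) vi
  refine ⟨Set.range (Points.ofPt mm), hWm, hWmc, hfin, ?_, ?_⟩
  · rintro _ ⟨v, rfl⟩ hv
    obtain ⟨i, vi, rfl⟩ := hinj v
    refine ⟨i, ?_⟩
    rw [e1] at hv ⊢
    rw [e3] at hv
    have hv' : (b i).left vi = σ (IsLocalRing.closedPoint _) :=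
      (Points.schemeEquiv T').injective hv
    have hfst : pullback.fst (k i).left g ((V i).ι vi) = w i :=
      hVuniq i ((V i).ι vi) vi.2 ⟨_, hv'⟩
    rw [e2]
    congr 1
  · intro i
    obtain ⟨v, hvV, hv1, hv2⟩ := hVex i
    let vi : ↥(Vo i).left := ⟨v, hvV⟩
    refine ⟨Points.ofPt mm ((inj i).left vi), ⟨_, rfl⟩, ?_, ?_⟩
    · rw [e1, e2]
      congr 1
    · rw [e1, e3]
      congr 1
      exact hv2 _

end Groth.Agent.H53.ZMT
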