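import Groth.Agent.H53.ZMT.GeomFibreQF
import Groth.Agent.H49.AlgSpQC

/-!
# Finite fibres: finite morphisms, and quasi-finiteness at the points of a finite fibre
-/

set_option autoImplicit false
universe u
open CategoryTheory CategoryTheory.Limits AlgebraicGeometry Opposite

namespace Groth.Agent.H53.ZMT

open AlgSp Groth.Agent.H50 Groth.Agent.H51

variable {S : Scheme.{u}}

/-- A finite morphism to an algebraic space has finite fibres on points. -/
theorem finite_fibre_of_isFiniteMor {X Y : Sp S} (hY : IsAlgSpace Y) (f : X ⟶ Y)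
    (hf : IsFiniteMor f) (y : Points Y) : (Points.map f ⁻¹' {y}).Finite := by
  obtain ⟨V, b, hVaff, -, hbcov⟩ := exists_affine_chart_covering hY {y} (Set.finite_singleton _)
  obtain ⟨v, hv⟩ := hbcov _ rfl
  obtain ⟨W, k, fst, sq, -, hkfin⟩ := hf hVaff b
  have hkfin' : IsFinite k.left := hkfin
  have hfib : (k.left ⁻¹' {v}).Finite := k.left.finite_preimage_singleton v
  refine (hfib.image (Points.ofPt fst)).subset ?_
  intro x hx
  obtain ⟨z, hz1, hz2⟩ := points_exists_of_isPullback sq x (Points.ofScheme V v) (by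
    rw [show Points.map f x = y from hx, ← Points.ofPt_eq_map_ofScheme, hv])
  obtain ⟨w, rfl⟩ := (Points.schemeEquiv W).surjective z
  refine ⟨w, ?_, ?_⟩
  · have h1 : Points.map ((yon S).map k) (Points.ofScheme W w) = Points.ofScheme V (k.left w) :=
      Points.map_yon_map_apply k w
    have h2 : Points.ofScheme V (k.left w) = Points.ofScheme V v := h1.symm.trans hz2
    exact (Points.schemeEquiv V).injective h2
  · rw [Points.ofPt_eq_map_ofScheme]
    exact hz1

/-- A morphism locally of finite type from a decent space is quasi-finite at the points of a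
finite fibre. -/
theorem hasAtMor_qfAt_of_finite_fibre_of_isDecent {X Y : AlgSp.Space S} (f : X ⟶ Y)
    (hf : LocP @LocallyOfFiniteType f.hom) (hX : IsDecent X.obj) (y : Points Y.obj)
    (hfin : (Points.map f.hom ⁻¹' {y}).Finite) (x : Points X.obj)
    (hx : Points.map f.hom x = y) : HasAtMor QfAt f.hom x := by
  obtain ⟨V, b, hVaff, hbe, hbcov⟩ :=
    exists_affine_chart_covering Y.property {y} (Set.finite_singleton _)
  obtain ⟨v, hv⟩ := hbcov _ rfl
  have hVaff' : IsAffine V.left := hVaff
  let X₀ : Sp S := pullback f.hom b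
  let pr : X₀ ⟶ X.obj := pullback.fst f.hom b
  let f₀ : X₀ ⟶ (yon S).obj V := pullback.snd f.hom b
  have sq₀ : IsPullback pr f₀ f.hom b := IsPullback.of_hasPullback f.hom b
  have hVsp : IsAlgSpace ((yon S).obj V) := IsAlgSpace.yon_obj V
  have hX₀ : IsAlgSpace X₀ :=
    Groth.Agent.H49.isAlgSpace_of_isPullback sq₀ Y.property.diag X.property hVsp
  obtain ⟨x₀, hx₀1, hx₀2⟩ := points_exists_of_isPullback sq₀ x (Points.ofScheme V v) (by
    rw [hx, ← Points.ofPt_eq_map_ofScheme, hv])
  obtain ⟨U, m, hUaff, hme, hmcov⟩ :=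
    exists_affine_chart_covering hX₀ {x₀} (Set.finite_singleton _)
  obtain ⟨u, hu⟩ := hmcov _ rfl
  have hUaff' : IsAffine U.left := hUaff
  obtain ⟨h, hh⟩ := (yon S).map_surjective (m ≫ f₀)
  have hpre : RepWith @Etale pr := MorphismProperty.of_isPullback sq₀.flip hbe
  have hae : RepWith @Etale (m ≫ pr) := (RepWith @Etale).comp_mem _ _ hme hpre
  have hcomm : (m ≫ pr) ≫ f.hom = (yon S).map h ≫ b := by
    rw [Category.assoc, sq₀.w, ← Category.assoc, hh]
  have hhlft : LocallyOfFiniteType h.left := hf (m ≫ pr) b h hae hbe hcomm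
  have hux : Points.ofPt (m ≫ pr) u = x := by rw [← Points.map_ofPt, hu, hx₀1]
  have hhu : h.left u = v := by
    have h1 : Points.map f₀ (Points.ofPt m u) = Points.ofScheme V (h.left u) := by
      rw [Points.map_ofPt, ← hh, Groth.Agent.H52.ofPt_yon_map]
    rw [hu, hx₀2] at h1
    exact ((Points.schemeEquiv V).injective h1).symm
  have hfibre : (h.left ⁻¹' {v}).Finite := by
    have hpre : (Points.ofPt (m ≫ pr) ⁻¹' (Points.map f.hom ⁻¹' {y})).Finite := by
      have hcover : Points.ofPt (m ≫ pr) ⁻¹' (Points.map f.hom ⁻¹' {y}) =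
          ⋃ p ∈ (Points.map f.hom ⁻¹' {y}), Points.ofPt (m ≫ pr) ⁻¹' {p} := by
        ext w
        simp only [Set.mem_preimage, Set.mem_singleton_iff, Set.mem_iUnion, exists_prop,
          exists_eq_right']
      rw [hcover]
      exact hfin.biUnion fun p _ => finite_ofPt_preimage_of_isDecent hX _ hae p
    refine hpre.subset ?_
    intro u' hu'
    change Points.map f.hom (Points.ofPt (m ≫ pr) u') = y
    rw [Points.map_ofPt, hcomm, Groth.Agent.H52.ofPt_yon_map_comp,
      show h.left u' = v from hu', hv]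
  have hq : h.left.QuasiFiniteAt u :=
    quasiFiniteAt_of_finite_fibre h.left u (by rw [hhu]; exact hfibre)
  exact ⟨U, V, m ≫ pr, b, h, u, hae, hbe, hcomm, hux,
    Groth.Agent.H52.qfNear_of_quasiFiniteAt h.left u hq⟩

end Groth.Agent.H53.ZMT
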