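import Mathlib.RingTheory.QuasiFinite.Basic
import Mathlib.RingTheory.Localization.Integral
import Mathlib.RingTheory.KrullDimension.Zero
import Mathlib.RingTheory.RingHom.FiniteType
import Mathlib.RingTheory.RingHom.Integral

/-!
# Generic finiteness: algebra

A quasi-finite algebra over a zero-dimensional local ring is integral, and integrality of a finite
type algebra at a prime spreads out to a principal open neighbourhood.
-/

set_option autoImplicit false
universe u
open Polynomial

namespace Groth.Agent.H53.ZMT

open IsLocalRing in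
/-- A quasi-finite algebra over a zero-dimensional local ring is integral. -/
theorem isIntegral_of_quasiFinite_of_krullDimLE_zero {R S : Type*} [CommRing R] [CommRing S]
    [Algebra R S] [IsLocalRing R] [Ring.KrullDimLE 0 R] [Algebra.QuasiFinite R S] :
    Algebra.IsIntegral R S := by
  let e : (maximalIdeal R).Fiber S ≃ₐ[R] S ⧸ (maximalIdeal R).map (algebraMap R S) :=
    (Algebra.TensorProduct.congr (.symm <| .ofBijective _
      (Ideal.bijective_algebraMap_quotient_residueField (maximalIdeal R))) .refl).trans <|
    (Algebra.TensorProduct.comm _ _ _).trans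
    ((Algebra.TensorProduct.quotIdealMapEquivTensorQuot S (maximalIdeal R)).symm.restrictScalars _)
  have hfin : Module.Finite R (S ⧸ (maximalIdeal R).map (algebraMap R S)) :=
    have : Module.Finite R ((maximalIdeal R).Fiber S) :=
      .trans (maximalIdeal R).ResidueField _
    .of_surjective e.toLinearMap e.surjective
  have hI : (maximalIdeal R).map (algebraMap R S) ≤ nilradical S := by
    rw [Ideal.map_le_iff_le_comap, ← Ring.KrullDimLE.nilradical_eq_maximalIdeal]
    exact fun x hx ↦ IsNilpotent.map hx _
  refine ⟨fun s => ?_⟩
  obtain ⟨P, hPm, hP⟩ := IsIntegral.of_finite R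
    (Ideal.Quotient.mk ((maximalIdeal R).map (algebraMap R S)) s)
  have h1 : Polynomial.eval₂ (algebraMap R S) s P ∈ (maximalIdeal R).map (algebraMap R S) := by
    rw [← Ideal.Quotient.eq_zero_iff_mem, ← hP, Polynomial.hom_eval₂]
    rfl
  obtain ⟨n, hn⟩ := hI h1
  exact ⟨P ^ n, hPm.pow n, by rw [Polynomial.eval₂_pow, hn]⟩


/-- Spreading out integrality of a finite type algebra: if every element becomes integral after
multiplication by an element of the submonoid `M`, then the algebra is finite over a principal
localization at an element of `M`. -/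
theorem exists_away_finite_of_forall_smul_isIntegral {A B : Type u} [CommRing A] [CommRing B]
    [Algebra A B] [Algebra.FiniteType A B] (M : Submonoid A)
    (hint : ∀ b : B, ∃ m ∈ M, IsIntegral A (m • b)) :
    ∃ f ∈ M, ∀ (A' B' : Type u) [CommRing A'] [CommRing B'] [Algebra A A'] [Algebra B B']
      [IsLocalization.Away f A'] [IsLocalization.Away (algebraMap A B f) B'],
      (IsLocalization.Away.map A' B' (algebraMap A B) f).Finite := by
  classical
  obtain ⟨s, hs⟩ := (Algebra.FiniteType.out : (⊤ : Subalgebra A B).FG)
  choose m hmM hm using hint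
  refine ⟨∏ b ∈ s, m b, Submonoid.prod_mem _ (fun b _ => hmM b), ?_⟩
  intro A' B' _ _ _ _ _ _
  set f : A := ∏ b ∈ s, m b with hf
  have hfb : ∀ b ∈ s, IsIntegral A (f • b) := by
    intro b hb
    rw [hf, ← Finset.mul_prod_erase s m hb, mul_comm, mul_smul]
    exact (hm b).smul _
  set ψ : A' →+* B' := IsLocalization.Away.map A' B' (algebraMap A B) f with hψ
  have hψc : ∀ a : A, ψ (algebraMap A A' a) = algebraMap B B' (algebraMap A B a) := fun a => by
    rw [hψ, IsLocalization.Away.map, IsLocalization.map_eq]
  refine RingHom.IsIntegral.to_finite ?_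
    (RingHom.localization_away_map_finiteType A B A' B' (algebraMap A B) f
      (RingHom.finiteType_algebraMap.2 inferInstance))
  -- the units
  obtain ⟨u, hu⟩ : ∃ u : A', u * algebraMap A A' f = 1 := by
    obtain ⟨u, hu⟩ := (IsLocalization.Away.algebraMap_isUnit (S := A') f).exists_left_inv
    exact ⟨u, hu⟩
  have hu' : ψ u * algebraMap B B' (algebraMap A B f) = 1 := by
    rw [← hψc, ← map_mul, hu, map_one]
  -- integrality of the images of elements of `B`
  have hB : ∀ b : B, ψ.IsIntegralElem (algebraMap B B' b) := by
    intro b
    have hb : b ∈ Algebra.adjoin A (s : Set B) := by rw [hs]; trivial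
    induction hb using Algebra.adjoin_induction with
    | mem x hx =>
      have h1 : algebraMap B B' x = ψ u * algebraMap B B' (f • x) := by
        rw [Algebra.smul_def, map_mul, ← mul_assoc, hu', one_mul]
      rw [h1]
      refine RingHom.IsIntegralElem.mul _ (ψ.isIntegralElem_map) ?_
      obtain ⟨P, hPm, hP⟩ := hfb x hx
      refine ⟨P.map (algebraMap A A'), hPm.map _, ?_⟩
      rw [Polynomial.eval₂_map]
      have : ψ.comp (algebraMap A A') = (algebraMap B B').comp (algebraMap A B) :=
        RingHom.ext hψc
      rw [this, ← Polynomial.hom_eval₂, hP, map_zero]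
    | algebraMap a =>
      rw [← hψc]
      exact ψ.isIntegralElem_map
    | add x y _ _ hx hy =>
      rw [map_add]
      exact RingHom.IsIntegralElem.add _ hx hy
    | mul x y _ _ hx hy =>
      rw [map_mul]
      exact RingHom.IsIntegralElem.mul _ hx hy
  intro x
  obtain ⟨⟨b, ⟨_, n, rfl⟩⟩, hx⟩ := IsLocalization.surj (Submonoid.powers (algebraMap A B f)) x
  have hx' : x * algebraMap B B' (algebraMap A B f) ^ n = algebraMap B B' b := by
    simpa using hx
  have h2 : x = ψ u ^ n * algebraMap B B' b := by
    rw [← hx', mul_comm x, ← mul_assoc, ← mul_pow, hu', one_pow, one_mul]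
  rw [h2]
  refine RingHom.IsIntegralElem.mul _ ?_ (hB b)
  rw [← map_pow]
  exact ψ.isIntegralElem_map


/-- Generic finiteness, algebraic form: a finite type algebra with finite fibre over a prime `p`
whose local ring is zero-dimensional is finite over a principal open neighbourhood of `p`. -/
theorem exists_away_finite_of_finite_fibre {A B : Type u} [CommRing A] [CommRing B]
    [Algebra A B] [Algebra.FiniteType A B] (p : Ideal A) [p.IsPrime]
    [Ring.KrullDimLE 0 (Localization.AtPrime p)]
    (hfib : (PrimeSpectrum.comap (algebraMap A B) ⁻¹' {⟨p, inferInstance⟩}).Finite) :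
    ∃ f ∉ p, ∀ (A' B' : Type u) [CommRing A'] [CommRing B'] [Algebra A A'] [Algebra B B']
      [IsLocalization.Away f A'] [IsLocalization.Away (algebraMap A B f) B'],
      (IsLocalization.Away.map A' B' (algebraMap A B) f).Finite := by
  let M : Submonoid A := p.primeCompl
  let R := Localization.AtPrime p
  let S := Localization (Algebra.algebraMapSubmonoid B M)
  have hloc : IsLocalization (Submonoid.map (algebraMap A B) M) S :=
    Localization.isLocalization (M := Algebra.algebraMapSubmonoid B M)
  have hft : Algebra.FiniteType R S := by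
    rw [← RingHom.finiteType_algebraMap]
    exact RingHom.finiteType_localizationPreserves (algebraMap A B) M R S
      (RingHom.finiteType_algebraMap.2 inferInstance)
  -- the spectrum of `S` is finite
  have hfinS : Finite (PrimeSpectrum S) := by
    have hinj : Function.Injective (PrimeSpectrum.comap (algebraMap B S)) :=
      PrimeSpectrum.localization_comap_injective S (Algebra.algebraMapSubmonoid B M)
    have hmem : ∀ Q : PrimeSpectrum S, PrimeSpectrum.comap (algebraMap B S) Q ∈
        PrimeSpectrum.comap (algebraMap A B) ⁻¹' {⟨p, inferInstance⟩} := by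
      intro Q
      have h1 : PrimeSpectrum.comap (algebraMap R S) Q = IsLocalRing.closedPoint R :=
        Subsingleton.elim _ _
      have h2 : PrimeSpectrum.comap (algebraMap A B) (PrimeSpectrum.comap (algebraMap B S) Q) =
          PrimeSpectrum.comap (algebraMap A R) (PrimeSpectrum.comap (algebraMap R S) Q) := by
        rw [← PrimeSpectrum.comap_comp_apply, ← PrimeSpectrum.comap_comp_apply,
          ← IsScalarTower.algebraMap_eq, ← IsScalarTower.algebraMap_eq]
      change _ = _
      rw [h2, h1]
      ext1
      exact Localization.AtPrime.under_maximalIdeal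
    have := hfib.to_subtype
    exact Finite.of_injective (fun Q : PrimeSpectrum S =>
      (⟨_, hmem Q⟩ : ↥(PrimeSpectrum.comap (algebraMap A B) ⁻¹' {⟨p, inferInstance⟩})))
      (fun Q Q' h => hinj (congrArg Subtype.val h))
  have hqf : Algebra.QuasiFinite R S :=
    Algebra.QuasiFinite.iff_finite_comap_preimage_singleton.2 (fun _ => Set.toFinite _)
  have hint : Algebra.IsIntegral R S := isIntegral_of_quasiFinite_of_krullDimLE_zero
  refine (exists_away_finite_of_forall_smul_isIntegral M (fun b => ?_)).imp
    (fun f hf => ⟨hf.1, hf.2⟩)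
  obtain ⟨m₁, hm₁⟩ := IsIntegral.exists_multiple_integral_of_isLocalization M
    (algebraMap B S b) (hint.isIntegral _)
  have h3 : m₁ • algebraMap B S b = algebraMap B S ((m₁ : A) • b) := by
    rw [Submonoid.smul_def, Algebra.smul_def, Algebra.smul_def, map_mul,
      ← IsScalarTower.algebraMap_apply]
  rw [h3] at hm₁
  obtain ⟨m₂, hm₂M, hm₂⟩ := IsLocalization.exists_isIntegral_smul_of_isIntegral_map
    (Sₘ := S) M hm₁
  refine ⟨m₂ * m₁, M.mul_mem hm₂M m₁.2, ?_⟩
  rw [mul_smul]
  exact hm₂

end Groth.Agent.H53.ZMT
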