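import Groth.Agent.H53.ZMT.GenFinSch2
import Groth.Agent.H51.SpBasic

/-!
# Generic finiteness without quasi-compactness: sources all of whose generic points lie over
the given point
-/

set_option autoImplicit false
universe u
open CategoryTheory CategoryTheory.Limits AlgebraicGeometry Opposite

namespace Groth.Agent.H53.ZMT

/-- A separated morphism locally of finite type to an affine scheme, with finite fibre over a point
`v` with zero-dimensional local ring, such that all points of the source with zero-dimensional local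
ring lie over `v`, is finite over a principal open neighbourhood of `v`. -/
theorem exists_basicOpen_isFinite_of_generic_over {R V : Scheme.{u}} [IsAffine V] (r : R ⟶ V)
    [LocallyOfFiniteType r] [IsSeparated r] (v : V)
    (hv : ringKrullDim (V.presheaf.stalk v) = 0)
    (hA : ∀ z : R, ringKrullDim (R.presheaf.stalk z) = 0 → r z = v)
    (hfib : (r ⁻¹' {v}).Finite) :
    ∃ f : Γ(V, ⊤), v ∈ V.basicOpen f ∧ IsFinite (r ∣_ V.basicOpen f) := by
  -- a quasi-compact open containing the fibre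
  have hex : ∀ z : R, ∃ U : R.Opens, IsAffineOpen U ∧ z ∈ U := by
    intro z
    obtain ⟨_, ⟨(U : R.Opens), hU, rfl⟩, hzU, -⟩ :=
      R.isBasis_affineOpens.exists_subset_of_mem_open (Set.mem_univ z) isOpen_univ
    exact ⟨U, hU, hzU⟩
  choose U hUaff hzU using hex
  let R' : R.Opens := ⟨⋃ z ∈ r ⁻¹' {v}, (U z : Set R), isOpen_biUnion fun z _ => (U z).2⟩
  have hR'c : IsCompact (R' : Set R) := hfib.isCompact_biUnion fun z _ => (hUaff z).isCompact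
  have hcs : CompactSpace ↥R'.toScheme := isCompact_iff_compactSpace.1 hR'c
  have hfibR' : ∀ z : R, r z = v → z ∈ R' := fun z hz =>
    Set.mem_biUnion (show z ∈ r ⁻¹' {v} from hz) (hzU z)
  have hfib' : ((R'.ι ≫ r) ⁻¹' {v}).Finite := by
    have : (R'.ι ≫ r) ⁻¹' {v} = R'.ι ⁻¹' (r ⁻¹' {v}) := by
      ext x
      simp
    rw [this]
    exact hfib.preimage R'.ι.isOpenEmbedding.injective.injOn
  obtain ⟨f, hvf, hfin⟩ := exists_basicOpen_isFinite_of_compact (R'.ι ≫ r) v hv hfib'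
  refine ⟨f, hvf, ?_⟩
  rw [morphismRestrict_comp] at hfin
  have hfin' : IsFinite (R'.ι ∣_ (r ⁻¹ᵁ V.basicOpen f) ≫ r ∣_ V.basicOpen f) := hfin
  have hjfin : IsFinite (R'.ι ∣_ (r ⁻¹ᵁ V.basicOpen f)) :=
    IsFinite.of_comp (R'.ι ∣_ (r ⁻¹ᵁ V.basicOpen f)) (r ∣_ V.basicOpen f)
  have hjoi : IsOpenImmersion (R'.ι ∣_ (r ⁻¹ᵁ V.basicOpen f)) := inferInstance
  have hjsurj : Surjective (R'.ι ∣_ (r ⁻¹ᵁ V.basicOpen f)) := by
    refine ⟨?_⟩
    rw [← Set.range_eq_univ]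
    by_contra hne
    have hcl : IsClosed (Set.range (R'.ι ∣_ (r ⁻¹ᵁ V.basicOpen f))) :=
      (R'.ι ∣_ (r ⁻¹ᵁ V.basicOpen f)).isClosedMap.isClosed_range
    obtain ⟨c, hc⟩ := (Set.ne_univ_iff_exists_notMem _).1 hne
    -- the complement, as an open subset of `R`
    let C : R.Opens := ⟨(r ⁻¹ᵁ V.basicOpen f).ι '' (Set.range (R'.ι ∣_ (r ⁻¹ᵁ V.basicOpen f)))ᶜ,
      (r ⁻¹ᵁ V.basicOpen f).ι.isOpenEmbedding.isOpenMap _ hcl.isOpen_compl⟩
    obtain ⟨z, hzC, hzdim⟩ := Groth.Agent.H51.exists_mem_ringKrullDim_stalk_eq_zero R C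
      ((r ⁻¹ᵁ V.basicOpen f).ι c) ⟨c, hc, rfl⟩
    obtain ⟨c', hc', rfl⟩ := hzC
    apply hc'
    have hz : r ((r ⁻¹ᵁ V.basicOpen f).ι c') = v := hA _ hzdim
    have hmem : (r ⁻¹ᵁ V.basicOpen f).ι c' ∈ R' := hfibR' _ hz
    -- the point `c'` lies in the image
    have hpre : (⟨(r ⁻¹ᵁ V.basicOpen f).ι c', hmem⟩ : ↥R') ∈ R'.ι ⁻¹ᵁ (r ⁻¹ᵁ V.basicOpen f) := by
      change R'.ι ⟨(r ⁻¹ᵁ V.basicOpen f).ι c', hmem⟩ ∈ r ⁻¹ᵁ V.basicOpen f
      exact c'.2
    refine ⟨⟨⟨(r ⁻¹ᵁ V.basicOpen f).ι c', hmem⟩, hpre⟩, ?_⟩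
    apply (r ⁻¹ᵁ V.basicOpen f).ι.isOpenEmbedding.injective
    rw [← Scheme.Hom.comp_apply, morphismRestrict_ι, Scheme.Hom.comp_apply]
    rfl
  have hjiso : IsIso (R'.ι ∣_ (r ⁻¹ᵁ V.basicOpen f)) :=
    (isIso_iff_isOpenImmersion_and_surjective _).2 ⟨hjoi, hjsurj⟩
  have e : r ∣_ V.basicOpen f = inv (R'.ι ∣_ (r ⁻¹ᵁ V.basicOpen f)) ≫
      (R'.ι ∣_ (r ⁻¹ᵁ V.basicOpen f) ≫ r ∣_ V.basicOpen f) := by
    rw [IsIso.inv_hom_id_assoc]
  rw [e]
  infer_instance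

end Groth.Agent.H53.ZMT
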