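import Groth.Agent.H53.ZMT.GenFinDense1
import Groth.Agent.H53.ZMT.GenFinLocal
import Groth.Agent.H52.CodimZeroQF
import Groth.Agent.H51.SpDim

/-!
# Generic finiteness of an atlas and its relation over a chart with a unique generic point
-/

set_option autoImplicit false
universe u
open CategoryTheory CategoryTheory.Limits AlgebraicGeometry Opposite

namespace Groth.Agent.H53.ZMT

open AlgSp Groth.Agent.H50 Groth.Agent.H51

variable {S : Scheme.{u}}

/-- The relation of an affine etale chart of a sheaf over an affine scheme is separated and locally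
of finite type over the base, and maps monomorphically to the fibre square of the chart. -/
theorem relation_props' {T₀ W : Over S} (hT₀ : IsAffine T₀.left) (hW : IsAffine W.left)
    {X₀ : Sp S} (f₀ : X₀ ⟶ (yon S).obj T₀) (m : (yon S).obj W ⟶ X₀)
    (hme : RepWith @Etale m) (h : W ⟶ T₀) (hh : (yon S).map h = m ≫ f₀)
    [LocallyOfFiniteType h.left] {R : Over S} (t s : R ⟶ W)
    (sqR : IsPullback ((yon S).map t) ((yon S).map s) m m) :
    IsSeparated (s ≫ h).left ∧ LocallyOfFiniteType (s ≫ h).left ∧ Etale s.left ∧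
      ∃ hw : t ≫ h = s ≫ h, Mono (pullback.lift t s hw).left := by
  have hset : Etale s.left := hme.property m _ s sqR
  have hw : t ≫ h = s ≫ h := by
    apply (yon S).map_injective
    rw [Functor.map_comp, Functor.map_comp, hh, ← Category.assoc, sqR.w, Category.assoc]
  have hWaff : IsAffine W.left := hW
  have hT₀' : IsAffine T₀.left := hT₀
  have hhaff : IsAffineHom h.left := inferInstance
  have hWWaff : IsAffine (pullback h h).left := by
    have : IsAffineHom (pullback.fst h h).left :=
      Groth.Agent.H52.prop_pullback_fst_left @IsAffineHom h h hhaff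
    exact isAffine_of_isAffineHom (pullback.fst h h).left
  have hδmono : Mono (pullback.lift t s hw) := by
    refine ⟨fun {Z} g₁ g₂ hg => ?_⟩
    apply (yon S).map_injective
    apply sqR.hom_ext
    · rw [← Functor.map_comp, ← Functor.map_comp]
      congr 1
      have := congrArg (· ≫ pullback.fst h h) hg
      simpa only [Category.assoc, pullback.lift_fst] using this
    · rw [← Functor.map_comp, ← Functor.map_comp]
      congr 1
      have := congrArg (· ≫ pullback.snd h h) hg
      simpa only [Category.assoc, pullback.lift_snd] using this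
  have hδmono' : Mono (pullback.lift t s hw).left := inferInstance
  have hδsep : IsSeparated (pullback.lift t s hw).left := inferInstance
  have hrsep : IsSeparated (s ≫ h).left := by
    have e : (s ≫ h).left = (pullback.lift t s hw).left ≫ (pullback.snd h h ≫ h).left := by
      rw [← Over.comp_left, ← Category.assoc, pullback.lift_snd]
    rw [e]
    infer_instance
  have hrlft : LocallyOfFiniteType (s ≫ h).left := by
    rw [Over.comp_left]
    infer_instance
  exact ⟨hrsep, hrlft, hset, hw, hδmono'⟩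

/-- The base change of a morphism along itself is finite over an open over which the morphism is
finite. -/
theorem isFinite_fst_morphismRestrict {W T : Scheme.{u}} (h : W ⟶ T) {P : Scheme.{u}}
    (fst snd : P ⟶ W) (sq : IsPullback fst snd h h) (N : T.Opens) (hfin : IsFinite (h ∣_ N)) :
    IsFinite (fst ∣_ (h ⁻¹ᵁ N)) := by
  have sq1 := (isPullback_morphismRestrict fst (h ⁻¹ᵁ N)).flip
  have sq2 : IsPullback ((fst ⁻¹ᵁ (h ⁻¹ᵁ N)).ι ≫ snd) (fst ∣_ (h ⁻¹ᵁ N)) h ((h ⁻¹ᵁ N).ι ≫ h) :=
    sq1.paste_horiz sq.flip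
  have sqN := (isPullback_morphismRestrict h N).flip
  have e : (h ⁻¹ᵁ N).ι ≫ h = h ∣_ N ≫ N.ι := (morphismRestrict_ι h N).symm
  rw [e] at sq2
  have sq3 : IsPullback (sqN.lift ((fst ⁻¹ᵁ (h ⁻¹ᵁ N)).ι ≫ snd) (fst ∣_ (h ⁻¹ᵁ N) ≫ h ∣_ N)
      (by rw [Category.assoc]; exact sq2.w)) (fst ∣_ (h ⁻¹ᵁ N)) (h ∣_ N) (h ∣_ N) := by
    refine IsPullback.of_right ?_ (sqN.lift_snd _ _ _) sqN
    rw [sqN.lift_fst]
    exact sq2
  exact MorphismProperty.of_isPullback (P := @IsFinite) sq3 hfin


/-- Generic finiteness of an affine etale chart and of its relation, over an affine base with a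
point `t₀` with zero-dimensional local ring such that the points of the chart over `t₀` are
exactly its points with zero-dimensional local ring. -/
theorem exists_basicOpen_isFinite_chart_relation {T₀ W : Over S} (hT₀ : IsAffine T₀.left)
    (hW : IsAffine W.left) {X₀ : Sp S} (f₀ : X₀ ⟶ (yon S).obj T₀) (m : (yon S).obj W ⟶ X₀)
    (hme : RepWith @Etale m) (h : W ⟶ T₀) (hh : (yon S).map h = m ≫ f₀)
    [LocallyOfFiniteType h.left] {R : Over S} (t s : R ⟶ W)
    (sqR : IsPullback ((yon S).map t) ((yon S).map s) m m) (t₀ : ↥T₀.left)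
    (hdim : ringKrullDim (T₀.left.presheaf.stalk t₀) = 0)
    (hA : ∀ w : ↥W.left, ringKrullDim (W.left.presheaf.stalk w) = 0 → h.left w = t₀)
    (hB : ∀ w : ↥W.left, h.left w = t₀ → ringKrullDim (W.left.presheaf.stalk w) = 0) :
    ∃ r₀ : Γ(T₀.left, ⊤), t₀ ∈ T₀.left.basicOpen r₀ ∧ IsFinite (h.left ∣_ T₀.left.basicOpen r₀) ∧
      IsFinite ((s ≫ h).left ∣_ T₀.left.basicOpen r₀) := by
  have hT₀' : IsAffine T₀.left := hT₀
  have hWaff : IsAffine W.left := hW
  have hhqc : QuasiCompact h.left := inferInstance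
  have hqfW : ∀ w, h.left w = t₀ → h.left.QuasiFiniteAt w := fun w hw =>
    Groth.Agent.H52.CZ.quasiFiniteAt_of_fibre_generic h.left t₀ hB w hw
  have hfibW : (h.left ⁻¹' {t₀}).Finite :=
    finite_preimage_singleton_of_quasiFiniteAt h.left t₀ hqfW
  obtain ⟨r₁, ht₁, hfin₁⟩ := exists_basicOpen_isFinite_of_finite_fibre h.left t₀ hdim hfibW
  obtain ⟨hrsep, hrlft, hset, hw, hδmono⟩ := relation_props' hT₀ hW f₀ m hme h hh t s sqR
  have hAR : ∀ z : ↥R.left, ringKrullDim (R.left.presheaf.stalk z) = 0 →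
      (s ≫ h).left z = t₀ := by
    intro z hz
    rw [Groth.Agent.H51.ringKrullDim_stalk_eq_of_etale s.left z] at hz
    exact hA _ hz
  -- the fibre of the relation is finite
  have sqWW : IsPullback (pullback.fst h h).left (pullback.snd h h).left h.left h.left :=
    (IsPullback.of_hasPullback h h).map (Over.forget S)
  have hfstfin : IsFinite ((pullback.fst h h).left ∣_ (h.left ⁻¹ᵁ T₀.left.basicOpen r₁)) :=
    isFinite_fst_morphismRestrict h.left _ _ sqWW _ hfin₁
  have hfibR : ((s ≫ h).left ⁻¹' {t₀}).Finite := by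
    have e : (s ≫ h).left = (pullback.lift t s hw).left ≫ (pullback.fst h h).left ≫ h.left := by
      rw [← Over.comp_left, ← Over.comp_left, ← Category.assoc, pullback.lift_fst, hw]
    have e' : (s ≫ h).left ⁻¹' {t₀} = (pullback.lift t s hw).left ⁻¹'
        ((pullback.fst h h).left ⁻¹' (h.left ⁻¹' {t₀})) := by
      rw [e]
      ext x
      simp
    rw [e']
    have hinj : Function.Injective (pullback.lift t s hw).left :=
      (pullback.lift t s hw).left.injective
    refine Set.Finite.preimage hinj.injOn ?_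
    refine hfibW.preimage' (fun w hw' => ?_)
    have hwO : w ∈ h.left ⁻¹ᵁ T₀.left.basicOpen r₁ := by
      change h.left w ∈ T₀.left.basicOpen r₁
      rw [show h.left w = t₀ from hw']
      exact ht₁
    have hf1 := ((pullback.fst h h).left ∣_
      (h.left ⁻¹ᵁ T₀.left.basicOpen r₁)).finite_preimage_singleton ⟨w, hwO⟩
    refine (hf1.image ((pullback.fst h h).left ⁻¹ᵁ (h.left ⁻¹ᵁ T₀.left.basicOpen r₁)).ι).subset ?_
    intro z hz
    have hzO : z ∈ (pullback.fst h h).left ⁻¹ᵁ (h.left ⁻¹ᵁ T₀.left.basicOpen r₁) := by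
      change (pullback.fst h h).left z ∈ h.left ⁻¹ᵁ T₀.left.basicOpen r₁
      rw [show (pullback.fst h h).left z = w from hz]
      exact hwO
    refine ⟨⟨z, hzO⟩, ?_, rfl⟩
    change ((pullback.fst h h).left ∣_ (h.left ⁻¹ᵁ T₀.left.basicOpen r₁)) ⟨z, hzO⟩ = ⟨w, hwO⟩
    apply (h.left ⁻¹ᵁ T₀.left.basicOpen r₁).ι.isOpenEmbedding.injective
    rw [← Scheme.Hom.comp_apply, morphismRestrict_ι, Scheme.Hom.comp_apply]
    exact hz
  obtain ⟨r₂, ht₂, hfin₂⟩ := exists_basicOpen_isFinite_of_generic_over (s ≫ h).left t₀ hdim hAR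
    hfibR
  have hN₁ : T₀.left.basicOpen (r₁ * r₂) ≤ T₀.left.basicOpen r₁ := by
    rw [Scheme.basicOpen_mul]; exact inf_le_left
  have hN₂ : T₀.left.basicOpen (r₁ * r₂) ≤ T₀.left.basicOpen r₂ := by
    rw [Scheme.basicOpen_mul]; exact inf_le_right
  refine ⟨r₁ * r₂, ?_, isFinite_morphismRestrict_of_le h.left hN₁ hfin₁,
    isFinite_morphismRestrict_of_le (s ≫ h).left hN₂ hfin₂⟩
  rw [Scheme.basicOpen_mul]
  exact ⟨ht₁, ht₂⟩

end Groth.Agent.H53.ZMT
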