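import Groth.Agent.H53.ZMT.Core2
import Groth.Agent.H53.ZMT.Dichotomy

/-!
# Stacks 0418 by induction on the fibre degree
-/

set_option autoImplicit false
universe u
open CategoryTheory CategoryTheory.Limits AlgebraicGeometry Opposite

namespace Groth.Agent.H53.ZMT

open AlgSp Groth.Agent.H50 Groth.Agent.H51

variable {S : Scheme.{u}}

variable (S) in
/-- The statement proved by induction on the degree `n` of `e`. -/
def Claim (n : ℕ) : Prop :=
  ∀ {T T' : Over S} (_ : IsAffine T.left) (_ : IsAffine T'.left) (e : T' ⟶ T)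
    (_ : Etale e.left) (_ : DegLE e.left n) {X P V' : Sp S} (_ : IsAlgSpace X)
    (f : X ⟶ (yon S).obj T) (_ : IsSeparatedMor f)
    (_ : LocP (@LocallyQuasiFinite ⊓ @LocallyOfFiniteType) f)
    (p1 : P ⟶ (yon S).obj T') (p2 : P ⟶ X) (_ : IsPullback p2 p1 f ((yon S).map e))
    (j : V' ⟶ P) (_ : RepWith @IsOpenImmersion j) (_ : IsQuasiAffineMor (j ≫ p1)),
    ∃ (W : Over S) (i : (yon S).obj W ⟶ X), RepWith @IsOpenImmersion i ∧ CompactSpace ↥W.left ∧
      Set.range (Points.map i) = Set.range (Points.map (j ≫ p2))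

theorem claim_zero : Claim S 0 := by
  intro T T' hT hT' e he hdeg X P V' hX f hsep hqf p1 p2 sq j hj hqa
  have hempty : IsEmpty ↥T'.left := isEmpty_of_degLE_zero hdeg
  have hPempty : IsEmpty (Points P) :=
    ⟨fun z => hempty.false ((Points.schemeHomeo T').symm (Points.map p1 z))⟩
  obtain ⟨V₀, eV, hV₀⟩ := exists_iso_yon_of_isQuasiAffineMor hT' (j ≫ p1) hqa
  have hV₀c : CompactSpace ↥V₀.left := inferInstance
  refine core hT hT' e he hX f hsep hqf p1 p2 sq j hj hqa (eV.hom ≫ j)
    ((MorphismProperty.cancel_left_of_respectsIso (RepWith @IsOpenImmersion) eV.hom j).2 hj)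
    (fun v => (hPempty.false (Points.map (eV.hom ≫ j) v)).elim)
    (fun z => (hPempty.false z).elim)

theorem claim_succ (n : ℕ) (ih : Claim S n) : Claim S (n + 1) := by
  intro T T' hT hT' e he hdeg X P V' hX f hsep hqf p1 p2 sq j hj hqa
  obtain ⟨Ts, a₀, a₁, hTs, ha₁, hdeg', hae, hsplit⟩ := exists_splitting hT hT' e he n hdeg
  have hP : IsAlgSpace P :=
    Groth.Agent.H49.isAlgSpace_of_isPullback sq (IsAlgSpace.yon_obj T).diag hX
      (IsAlgSpace.yon_obj T')
  have hsep' : IsSeparatedMor p1 := isSeparatedMor_of_isPullback sq hsep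
  have hqf' : LocP (@LocallyQuasiFinite ⊓ @LocallyOfFiniteType) p1 :=
    locP_lqf_of_isPullback hX (IsAlgSpace.yon_obj T) (IsAlgSpace.yon_obj T') sq hqf
  -- the base change `Ps = P ×_{T', a₁} Ts`
  have sqs : IsPullback (pullback.fst p1 ((yon S).map a₁)) (pullback.snd p1 ((yon S).map a₁)) p1
      ((yon S).map a₁) := IsPullback.of_hasPullback _ _
  set Ps := pullback p1 ((yon S).map a₁) with hPs
  set q₁ : Ps ⟶ P := pullback.fst p1 ((yon S).map a₁) with hq₁
  set r : Ps ⟶ (yon S).obj Ts := pullback.snd p1 ((yon S).map a₁) with hr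
  have hbig : IsPullback (q₁ ≫ p2) r f ((yon S).map a₁ ≫ (yon S).map e) := sqs.paste_horiz sq
  have hae' : (yon S).map a₀ ≫ (yon S).map e = (yon S).map a₁ ≫ (yon S).map e := by
    rw [← Functor.map_comp, ← Functor.map_comp, hae]
  obtain ⟨q₀, h02, h01⟩ := sq.exists_lift (q₁ ≫ p2) (r ≫ (yon S).map a₀) (by
    rw [Category.assoc, Category.assoc, hae', ← hbig.w, Category.assoc])
  have sq0 : IsPullback q₀ r p1 ((yon S).map a₀) := by
    refine IsPullback.of_right ?_ h01 sq
    rw [h02, hae']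
    exact hbig
  -- the open subspace `Vs = V' ×_{P, q₀} Ps`
  have sqV : IsPullback (pullback.fst j q₀) (pullback.snd j q₀) j q₀ := IsPullback.of_hasPullback _ _
  set Vs := pullback j q₀ with hVs
  set k : Vs ⟶ V' := pullback.fst j q₀ with hk
  set js : Vs ⟶ Ps := pullback.snd j q₀ with hjs
  have hjsoi : RepWith @IsOpenImmersion js := (RepWith @IsOpenImmersion).of_isPullback sqV hj
  have hqa' : IsQuasiAffineMor (js ≫ r) :=
    isQuasiAffineMor_of_isPullback (sqV.paste_vert sq0) hqa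
  obtain ⟨Ws, is, hisoi, hWs, hrange⟩ :=
    ih hT' hTs a₁ ha₁ hdeg' hP p1 hsep' hqf' r q₁ sqs js hjsoi hqa'
  refine core hT hT' e he hX f hsep hqf p1 p2 sq j hj hqa is hisoi ?_ ?_
  · intro v
    obtain ⟨vs, hvs⟩ : Points.map is v ∈ Set.range (Points.map (js ≫ q₁)) := hrange ▸ ⟨v, rfl⟩
    refine ⟨Points.map k vs, ?_⟩
    rw [← hvs, points_map_comp_apply, points_map_comp_apply]
    congr 1
    rw [Category.assoc, ← h02, sqV.w_assoc]
  · rintro z ⟨v, hv⟩
    have hzy : Points.map p2 z = Points.map p2 (Points.map j v) := by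
      rw [← hv, points_map_comp_apply]
    rcases points_dichotomy e a₀ a₁ hsplit sq sqs q₀ h02 h01 z (Points.map j v) hzy with
      h | ⟨w, hw0, hw1⟩
    · left; exact ⟨v, h.symm⟩
    · right
      obtain ⟨vs, -, hvs⟩ := points_exists_of_isPullback sqV v w hw0.symm
      have : z ∈ Set.range (Points.map (js ≫ q₁)) :=
        ⟨vs, by rw [← points_map_comp_apply, hvs, hw1]⟩
      rwa [← hrange] at this

theorem claim (n : ℕ) : Claim S n := by
  induction n with
  | zero => exact claim_zero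
  | succ n ih => exact claim_succ n ih

end Groth.Agent.H53.ZMT
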