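import Mathlib.AlgebraicGeometry.ZariskisMainTheorem

/-!
# Local structure of quasi-finite morphisms: affine etale neighbourhood version
-/

set_option autoImplicit false
universe u
open CategoryTheory CategoryTheory.Limits AlgebraicGeometry

namespace Groth.Agent.H53.ZMT

/-- Etale localization splitting off a finite part through a quasi-finite point, with affine etale
neighbourhood. -/
theorem exists_etale_finite_of_quasiFiniteAt {U₁ T₀ : Scheme.{u}} (h : U₁ ⟶ T₀)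
    [LocallyOfFiniteType h] [IsSeparated h] (u : U₁) (hu : h.QuasiFiniteAt u) :
    ∃ (T' : Scheme.{u}) (g : T' ⟶ T₀) (V₁ : Scheme.{u}) (a : V₁ ⟶ U₁) (b : V₁ ⟶ T'),
      IsAffine T' ∧ Etale g ∧ a ≫ h = b ≫ g ∧ IsFinite b ∧ Etale a ∧ u ∈ Set.range a := by
  obtain ⟨Tn, g₀, hg₀, -, V, W, v, -, hfin, hv⟩ :=
    exists_etale_isCompl_of_quasiFiniteAt h (rfl : h u = h u) hu
  set φ : (V : Scheme.{u}) ⟶ Tn := V.ι ≫ pullback.snd h g₀ with hφ
  obtain ⟨_, ⟨(T'' : Tn.Opens), hT'', rfl⟩, ht', -⟩ :=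
    Tn.isBasis_affineOpens.exists_subset_of_mem_open (Set.mem_univ (φ v)) isOpen_univ
  have hT''aff : IsAffine (T'' : Scheme.{u}) := hT''
  have hbfin : IsFinite (φ ∣_ T'') := IsZariskiLocalAtTarget.restrict hfin T''
  refine ⟨T'', T''.ι ≫ g₀, (φ ⁻¹ᵁ T''), (φ ⁻¹ᵁ T'').ι ≫ V.ι ≫ pullback.fst h g₀, φ ∣_ T'',
    hT''aff, inferInstance, ?_, hbfin, inferInstance, ?_⟩
  · rw [Category.assoc, Category.assoc, pullback.condition, ← Category.assoc V.ι, ← hφ,
      ← Category.assoc, ← morphismRestrict_ι, Category.assoc]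
  · refine ⟨⟨v, ht'⟩, ?_⟩
    rw [Scheme.Hom.comp_apply, Scheme.Hom.comp_apply]
    exact hv

end Groth.Agent.H53.ZMT
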