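import Groth.Agent.H53.ZMT.Induct
import Groth.Agent.H53.ZMT.FinEtQuot
import Groth.Agent.H53.ZMT.LocalStr
import Groth.Agent.H51.SpFinite
import Groth.Agent.H51.SpEtale

/-!
# An algebraic space separated and locally quasi-finite over a scheme is a scheme (Stacks 03XX)
-/

set_option autoImplicit false
universe u
open CategoryTheory CategoryTheory.Limits AlgebraicGeometry Opposite

namespace Groth.Agent.H53.ZMT

open AlgSp Groth.Agent.H50 Groth.Agent.H51

variable {S : Scheme.{u}}

theorem isClosedImmersion_le_isFinite :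
    (@IsClosedImmersion : MorphismProperty Scheme.{u}) ≤ @IsFinite := fun _ _ k hk => by
  have : IsClosedImmersion k := hk
  exact (inferInstance : IsFinite k)

theorem isEtaleMor_of_repWith {F G : Sp S} {f : F ⟶ G} (hf : RepWith @Etale f) : IsEtaleMor f :=
  fun _ _ hφ => (RepWith @Etale).comp_mem _ _ hφ hf

/-- Affine base: every point has an open neighbourhood which is a scheme. -/
theorem exists_open_subscheme_of_affine {T : Over S} (hT : IsAffine T.left) {X : Sp S}
    (hX : IsAlgSpace X) (f : X ⟶ (yon S).obj T) (hsep : IsSeparatedMor f)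
    (hqf : LocP (@LocallyQuasiFinite ⊓ @LocallyOfFiniteType) f) (x : Points X) :
    ∃ (W : Over S) (i : (yon S).obj W ⟶ X), RepWith @IsOpenImmersion i ∧
      x ∈ Set.range (Points.map i) := by
  obtain ⟨U, a, hae, has⟩ := hX.atlas
  obtain ⟨u, rfl⟩ := surjective_ofPt_of_surjective a has x
  obtain ⟨_, ⟨(U₁ : U.left.Opens), hU₁, rfl⟩, huU₁, -⟩ :=
    U.left.isBasis_affineOpens.exists_subset_of_mem_open (Set.mem_univ u) isOpen_univ
  have hU₁aff : IsAffine (overOpen U U₁).left := hU₁
  set a₁ : (yon S).obj (overOpen U U₁) ⟶ X := (yon S).map (overOpenι U U₁) ≫ a with ha₁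
  have ha₁e : RepWith @Etale a₁ := repWith_etale_restrict a hae U₁
  let u₁ : ↥(overOpen U U₁).left := ⟨u, huU₁⟩
  have hu₁ : Points.ofPt a₁ u₁ = Points.ofPt a u := ofPt_restrict a U₁ u₁
  obtain ⟨h, hh⟩ := (yon S).map_surjective (a₁ ≫ f)
  have hhP : (@LocallyQuasiFinite ⊓ @LocallyOfFiniteType : MorphismProperty Scheme.{u}) h.left :=
    hqf a₁ (𝟙 _) h ha₁e (repWith_id _ T) (by rw [hh, Category.comp_id])
  have hh1 : LocallyQuasiFinite h.left := hhP.1
  have hh2 : LocallyOfFiniteType h.left := hhP.2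
  have hh3 : IsSeparated h.left := inferInstance
  obtain ⟨T'l, g, V₁, al, bl, hT'aff, hg, hcomm, hbfin, haet, hmem⟩ :=
    exists_etale_finite_of_quasiFiniteAt h.left u₁ (h.left.quasiFiniteAt u₁)
  -- objects over `S`
  let T' : Over S := Over.mk (g ≫ T.hom)
  let e : T' ⟶ T := Over.homMk g rfl
  let V₁o : Over S := Over.mk (bl ≫ g ≫ T.hom)
  let b : V₁o ⟶ T' := Over.homMk bl rfl
  let a' : V₁o ⟶ overOpen U U₁ := Over.homMk al (by
    change al ≫ (overOpen U U₁).hom = bl ≫ g ≫ T.hom
    rw [← Over.w h, ← Category.assoc, hcomm, Category.assoc])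
  have hcommO : a' ≫ h = b ≫ e := by
    ext1
    exact hcomm
  have hT'a : IsAffine T'.left := hT'aff
  have hV₁aff : IsAffine V₁o.left := isAffine_of_isAffineHom bl
  have hee : Etale e.left := hg
  -- the base change
  have sq : IsPullback (pullback.fst f ((yon S).map e)) (pullback.snd f ((yon S).map e)) f
      ((yon S).map e) := IsPullback.of_hasPullback _ _
  set P' := pullback f ((yon S).map e) with hP'def
  set p2 : P' ⟶ X := pullback.fst f ((yon S).map e) with hp2
  set p1 : P' ⟶ (yon S).obj T' := pullback.snd f ((yon S).map e) with hp1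
  have hP' : IsAlgSpace P' :=
    Groth.Agent.H49.isAlgSpace_of_isPullback sq (IsAlgSpace.yon_obj T).diag hX
      (IsAlgSpace.yon_obj T')
  have hsep' : IsSeparatedMor p1 := isSeparatedMor_of_isPullback sq hsep
  have hp2e : RepWith @Etale p2 := repWith_etale_of_isPullback_yon_map e hee sq
  obtain ⟨m, hm2, hm1⟩ := sq.exists_lift ((yon S).map a' ≫ a₁) ((yon S).map b) (by
    rw [Category.assoc, ← hh, ← Functor.map_comp, hcommO, Functor.map_comp])
  have ha'e : RepWith @Etale ((yon S).map a') := (repWith_yon_map_iff _ _).2 haet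
  have hmet : RepWith @Etale m := by
    have h1 : IsEtaleMor (m ≫ p2) := by
      rw [hm2]
      exact isEtaleMor_of_repWith ((RepWith @Etale).comp_mem _ _ ha'e ha₁e)
    have h2 := isEtaleMor_of_comp hP' h1 (isEtaleMor_of_repWith hp2e) (𝟙 _) (repWith_id _ V₁o)
    rwa [Category.id_comp] at h2
  have hmfin : RepWith @IsFinite m :=
    repWith_of_comp_of_isSeparatedMor @IsFinite isClosedImmersion_le_isFinite m p1 hsep' (by
      rw [hm1]
      exact (repWith_yon_map_iff _ _).2 hbfin)
  -- the image of `m`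
  have hWm : IsOpen (Set.range (Points.ofPt m)) := (isOpenMap_ofPt_of_etale m hmet).isOpen_range
  set Wm : Set (Points P') := Set.range (Points.ofPt m) with hWmdef
  have hjV : RepWith @IsOpenImmersion (openSubι P' Wm) := repWith_isOpenImmersion_openSubι Wm hWm
  obtain ⟨m', hm', hm'e, hm's, -⟩ := isPresentation_of_open_image m hmet (openSubι P' Wm) hjV
    (range_map_openSubι Wm)
  have hm'fin : RepWith @IsFinite m' := repWith_of_comp_mono m' (openSubι P' Wm) (by
    rw [hm']; exact hmfin)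
  obtain ⟨M, eM, π, hMaff, -, -⟩ := exists_affine_quot hV₁aff m' hm'e hm'fin hm's
  have hMqa : M.left.IsQuasiAffine := inferInstance
  have hqa : IsQuasiAffineMor (openSubι P' Wm ≫ p1) :=
    isQuasiAffineMor_of_iso_yon eM (openSubι P' Wm ≫ p1) hMqa hT'a
  obtain ⟨n, hn⟩ := exists_degLE_of_etale e.left
  obtain ⟨W, i, hi, -, hrange⟩ :=
    claim n hT hT'a e hee hn hX f hsep hqf p1 p2 sq (openSubι P' Wm) hjV hqa
  refine ⟨W, i, hi, ?_⟩
  rw [hrange]
  obtain ⟨v₁, hv₁⟩ := hmem
  have hx : Points.ofPt a u = Points.map p2 (Points.ofPt m v₁) := by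
    rw [Points.map_ofPt, hm2, ofPt_map_comp, ← hu₁]
    congr 1
    exact hv₁.symm
  obtain ⟨y, hy⟩ : Points.ofPt m v₁ ∈ Set.range (Points.map (openSubι P' Wm)) := by
    rw [range_map_openSubι]
    exact ⟨v₁, rfl⟩
  exact ⟨y, by rw [hx, ← hy, points_map_comp_apply]⟩

end Groth.Agent.H53.ZMT
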