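import Groth.Agent.H50.Points

/-!
# Representing two points with the same image by sections over a common field
-/

set_option autoImplicit false
set_option backward.isDefEq.respectTransparency false
universe u
open CategoryTheory CategoryTheory.Limits AlgebraicGeometry Opposite

namespace Groth.Agent.H53.ZMT

open AlgSp Groth.Agent.H50

variable {S : Scheme.{u}}

theorem exists_field_lift {F G H : Sp S} (f : F ⟶ H) (g : G ⟶ H) (x : Points F) (y : Points G)
    (h : Points.map f x = Points.map g y) :
    ∃ (Ω : Type u) (_ : Field Ω) (w : Spec (CommRingCat.of Ω) ⟶ S)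
      (pΩ : (yon S).obj (Over.mk w) ⟶ F) (qΩ : (yon S).obj (Over.mk w) ⟶ G),
      pΩ ≫ f = qΩ ≫ g ∧ Points.mk (fieldPtOfHom w pΩ) = x ∧ Points.mk (fieldPtOfHom w qΩ) = y := by
  induction x using Points.ind with
  | h p =>
  induction y using Points.ind with
  | h q =>
  rw [Points.map_mk, Points.map_mk, Points.mk_eq_mk_iff] at h
  obtain ⟨Ω, _, w, a, b, hab⟩ := h
  let pΩ : (yon S).obj (Over.mk w) ⟶ F := (yon S).map a ≫ p.toHom
  let qΩ : (yon S).obj (Over.mk w) ⟶ G := (yon S).map b ≫ q.toHom
  have hpq : pΩ ≫ f = qΩ ≫ g := by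
    apply (J S).uliftYonedaEquiv.injective
    simp only [pΩ, qΩ, Category.assoc]
    rw [← (J S).uliftYonedaEquiv_naturality, ← (J S).uliftYonedaEquiv_naturality,
      ← FieldPt.toHom_map, ← FieldPt.toHom_map, FieldPt.uliftYonedaEquiv_toHom,
      FieldPt.uliftYonedaEquiv_toHom]
    exact hab
  refine ⟨Ω, inferInstance, w, pΩ, qΩ, hpq, ?_, ?_⟩
  · have := mk_fieldPtOfHom_map_comp p.str w a p.toHom
    rw [fieldPtOfHom_toHom] at this
    exact this
  · have := mk_fieldPtOfHom_map_comp q.str w b q.toHom
    rw [fieldPtOfHom_toHom] at this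
    exact this

/-- The point defined by a section over a field, pushed forward. -/
theorem map_mk_fieldPtOfHom {F G : Sp S} (f : F ⟶ G) {K : Type u} [Field K]
    (str : Spec (CommRingCat.of K) ⟶ S) (m : (yon S).obj (Over.mk str) ⟶ F) :
    Points.map f (Points.mk (fieldPtOfHom str m)) = Points.mk (fieldPtOfHom str (m ≫ f)) := by
  rw [Points.map_mk, fieldPtOfHom_map]

end Groth.Agent.H53.ZMT
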