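import Groth.Agent.H50.LocPNbhd
import Groth.Agent.H50.LocPBase
import Groth.Agent.H50.Points
import Groth.Agent.H51.SpOpen
import Groth.Agent.H49.AlgSpRep

/-!
# The quasi-finite locus of a morphism of algebraic spaces
-/

set_option autoImplicit false
universe u
open CategoryTheory CategoryTheory.Limits AlgebraicGeometry Opposite

namespace Groth.Agent.H53.ZMT

open AlgSp Groth.Agent.H50 Groth.Agent.H51

variable {S : Scheme.{u}}

/-- Quasi-finite at a point of a chart. -/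
abbrev QfAt : ∀ (U V : Scheme.{u}), (U ⟶ V) → ↥U → Prop :=
  fun U _ h u => ∃ W : U.Opens, u ∈ W ∧ LocallyQuasiFinite (W.ι ≫ h) ∧ LocallyOfFiniteType (W.ι ≫ h)

/-- The quasi-finite locus is open. -/
theorem isOpen_hasAtMor_qfAt {X Y : Sp S} (f : X ⟶ Y) :
    IsOpen {x : Points X | HasAtMor QfAt f x} := by
  rw [isOpen_iff_forall_mem_open]
  rintro x ⟨U, V, a, b, h, u, ha, hb, comm, rfl, W, hW, h1, h2⟩
  refine ⟨Points.ofPt a '' (W : Set ↥U.left), ?_,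
    isOpenMap_ofPt_of_etale a ha _ W.isOpen, ⟨u, hW, rfl⟩⟩
  rintro _ ⟨w, hw, rfl⟩
  exact ⟨U, V, a, b, h, w, ha, hb, comm, rfl, W, hw, h1, h2⟩

theorem hasAtMor_qfAt_iff {X Y : Sp S} (f : X ⟶ Y) (x : Points X) :
    HasAtMor QfAt f x ↔ HasAtMor (fun U _ h u => ∃ W : U.Opens, u ∈ W ∧
      (@LocallyQuasiFinite ⊓ @LocallyOfFiniteType : MorphismProperty Scheme.{u}) (W.ι ≫ h)) f x :=
  ⟨fun ⟨U, V, a, b, h, u, ha, hb, comm, hx, W, hW, h1, h2⟩ =>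
      ⟨U, V, a, b, h, u, ha, hb, comm, hx, W, hW, h1, h2⟩,
    fun ⟨U, V, a, b, h, u, ha, hb, comm, hx, W, hW, h1, h2⟩ =>
      ⟨U, V, a, b, h, u, ha, hb, comm, hx, W, hW, h1, h2⟩⟩

/-- Quasi-finite at every point implies locally quasi-finite. -/
theorem locP_lqf_of_forall_hasAtMor {X Y : Sp S} (hX : IsAlgSpace X) (hY : IsAlgSpace Y)
    (f : X ⟶ Y) (h : ∀ x : Points X, HasAtMor QfAt f x) :
    LocP (@LocallyQuasiFinite ⊓ @LocallyOfFiniteType) f :=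
  (goodClass_lqf.locP_iff_forall_hasAtMor hX hY f).2 (fun x => (hasAtMor_qfAt_iff f x).1 (h x))

/-- The quasi-finite locus pulls back. -/
theorem hasAtMor_qfAt_of_isPullback {X Y X' Y' : Sp S} (hX : IsAlgSpace X) (hY : IsAlgSpace Y)
    (hX' : IsAlgSpace X') (hY' : IsAlgSpace Y') {f : X ⟶ Y} {gY : Y' ⟶ Y} {gX : X' ⟶ X}
    {f' : X' ⟶ Y'} (sq : IsPullback gX f' f gY) (x' : Points X')
    (h : HasAtMor QfAt f (Points.map gX x')) : HasAtMor QfAt f' x' := by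
  rw [hasAtMor_qfAt_iff] at h ⊢
  obtain ⟨X₁, j₁, hX₁, hj₁, ⟨x₁, hx₁⟩, hP⟩ :=
    (goodClass_lqf.hasAtMor_iff_exists_open hX hY f _).1 h
  have sq1 : IsPullback (pullback.fst j₁ gX) (pullback.snd j₁ gX) j₁ gX :=
    IsPullback.of_hasPullback _ _
  have hj₁' : RepWith @IsOpenImmersion (pullback.snd j₁ gX) :=
    (RepWith @IsOpenImmersion).of_isPullback sq1 hj₁
  have hX₁' : IsAlgSpace (pullback j₁ gX) :=
    Groth.Agent.H49.isAlgSpace_of_isPullback sq1 hX.diag hX₁ hX'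
  obtain ⟨z, -, hz⟩ := points_exists_of_isPullback sq1 x₁ x' hx₁
  have sq2 : IsPullback (pullback.fst j₁ gX) (pullback.snd j₁ gX ≫ f') (j₁ ≫ f) gY :=
    sq1.paste_vert sq
  refine (goodClass_lqf.hasAtMor_iff_exists_open hX' hY' f' x').2
    ⟨pullback j₁ gX, pullback.snd j₁ gX, hX₁', hj₁', ⟨z, hz⟩, ?_⟩
  exact goodClass_lqf.locP_of_isPullback hX₁ hY hY' (j₁ ≫ f) gY _ _ sq2 hP

end Groth.Agent.H53.ZMT
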